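import Cfsg.Agent.CoOneInv.Lattice

/-!
The elements fixing the sublattice on the octad pointwise: an extraspecial group of order 512 which contains
its centralizer up to sign.
-/

set_option autoImplicit false

namespace CfsgLib.CoOneInv

open Cfsg CfsgLib.Mathieu CfsgLib.Leech
open scoped Matrix

/-- The mask of the complement of the octad. -/
def offMask : ℕ := 8241104

theorem mem_octO {p : GolayPt} : p ∈ octO ↔ m24BaseOctad.testBit (idx p) = true := mem_setOf24

theorem eightL_onO {p : GolayPt} (hp : p ∈ octO) : OnO (eightL p : GolayPt → ℤ) := fun q hq => by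
  show eight p q = 0
  rw [eight, Pi.single_apply, if_neg]
  rintro rfl
  exact hq hp

theorem mono_mem_C0 {τ : Equiv.Perm GolayPt} (hτ : τ ∈ M24) {c : Finset GolayPt}
    (hc : c ∈ supports (golayCode : Set (GolayPt → ZMod 2)))
    (h : ∀ p, τ p ∈ octO ↔ p ∈ octO) : monoCo0 τ hτ c hc ∈ C0 := by
  rw [Subgroup.mem_centralizer_singleton_iff]
  refine co0_ext fun v => Subtype.ext (funext fun p => ?_)
  rw [mul_smul, mul_smul, epsCo0_smul, monoCo0_smul, monoCo0_smul]
  simp only [monoFun, epsCo0_smul, h p]
  split_ifs <;> simp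

theorem tau_octO {τ : Equiv.Perm GolayPt} (hτ : τ ∈ M24) {c : Finset GolayPt}
    (hc : c ∈ supports (golayCode : Set (GolayPt → ZMod 2))) (h : monoCo0 τ hτ c hc ∈ C0) (p : GolayPt) :
    τ p ∈ octO ↔ p ∈ octO := by
  have hmap : ∀ q, q ∈ octO → τ⁻¹ q ∈ octO := by
    intro q hq
    by_contra hn
    have := onO_smul h (eightL_onO hq) (τ⁻¹ q) hn
    rw [monoCo0_eight] at this
    split at this <;> simp [eight] at this
  refine ⟨fun hq => by simpa using hmap _ hq, fun hp => ?_⟩
  have himg : octO.image ⇑τ⁻¹ = octO :=
    Finset.eq_of_subset_of_card_le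
      (fun q hq => by obtain ⟨r, hr, rfl⟩ := Finset.mem_image.1 hq; exact hmap r hr)
      (by rw [Finset.card_image_of_injective _ τ⁻¹.injective])
  rw [← himg, Finset.mem_image] at hp
  obtain ⟨r, hr, e⟩ := hp
  rw [← e, perm_apply_inv]
  exact hr

/-- The pointwise stabiliser of the sublattice on the octad. -/
def fixK : Subgroup Co0 := ⨅ p ∈ octO, MulAction.stabilizer Co0 (eightL p)

theorem mem_fixK {g : Co0} : g ∈ fixK ↔ ∀ p ∈ octO, g • eightL p = eightL p := by
  simp only [fixK, Subgroup.mem_iInf, MulAction.mem_stabilizer_iff]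

theorem fixK_onO {g : Co0} (hg : g ∈ fixK) {v : leechLattice} (hv : OnO (v : GolayPt → ℤ)) :
    g • v = v := by
  have e : (8 : ℤ) • v = ∑ p ∈ octO, (v : GolayPt → ℤ) p • eightL p := by
    apply Subtype.ext
    rw [AddSubgroup.coe_zsmul, AddSubgroup.val_finsetSum]
    funext q
    simp only [Pi.smul_apply, Finset.sum_apply, AddSubgroup.coe_zsmul, eightL, eight, smul_eq_mul,
      Pi.single_apply, mul_ite, mul_zero, Finset.sum_ite_eq]
    split_ifs with hq
    · ring
    · rw [hv q hq, mul_zero]
  have e2 : co0Hom g ((8 : ℤ) • v) = (8 : ℤ) • v := by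
    rw [e, map_sum]
    exact Finset.sum_congr rfl fun p hp => by
      rw [map_zsmul]; exact congrArg _ (mem_fixK.1 hg p hp)
  rw [map_zsmul] at e2
  refine Subtype.ext (funext fun q => ?_)
  have h8 := congrFun (congrArg Subtype.val e2) q
  simp only [AddSubgroup.coe_zsmul, Pi.smul_apply, smul_eq_mul] at h8
  change 8 * ((g • v : leechLattice) : GolayPt → ℤ) q = 8 * (v : GolayPt → ℤ) q at h8
  omega

/-! ### The elements -/

theorem transTab_spec : ∀ i : Fin 16, tableValid (octadTranslations.getD i 0) = true ∧
    preservesCode (octadTranslations.getD i 0) = true := by decide +kernel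

/-- A translation fixing the octad pointwise. -/
noncomputable def transPerm (i : Fin 16) : Equiv.Perm GolayPt :=
  Equiv.ofBijective _ (tableFun_bijective (transTab_spec i).1)

theorem transPerm_apply (i : Fin 16) (p : GolayPt) :
    transPerm i p = tableFun (octadTranslations.getD i 0) p := rfl

theorem transPerm_mem (i : Fin 16) : transPerm i ∈ M24 := by
  refine mem_M24_of_table (fun p => ?_) (transTab_spec i).2
  have h := (transTab_spec i).1
  simp only [tableValid, Bool.and_eq_true, allBelow_iff, Nat.blt_eq] at h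
  exact (idx_pt (h.1 _ (idx_lt p))).symm

theorem transPerm_fix : ∀ i, ∀ p ∈ octO, transPerm i p = p := by
  have h : ∀ i : Fin 16, ∀ p ∈ octO, tableFun (octadTranslations.getD i 0) p = p := by decide +kernel
  exact h

theorem transPerm_mem_octO (i : Fin 16) (p : GolayPt) : transPerm i p ∈ octO ↔ p ∈ octO := by
  refine ⟨fun h => ?_, fun h => by rwa [transPerm_fix i p h]⟩
  rwa [(transPerm i).injective (transPerm_fix i _ h)] at h

theorem transPerm_zero (p : GolayPt) : transPerm 0 p = p :=
  (by decide +kernel : ∀ p, tableFun (octadTranslations.getD (0 : Fin 16) 0) p = p) p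

theorem transPerm_transitive : ∀ p q : GolayPt, p ∉ octO → q ∉ octO → ∃ i, transPerm i p = q := by
  have h : ∀ p q : GolayPt, p ∉ octO → q ∉ octO →
      ∃ i : Fin 16, tableFun (octadTranslations.getD i 0) p = q := by decide +kernel
  exact h

theorem transPerm_comm (i k : Fin 16) (p : GolayPt) :
    transPerm i (transPerm k p) = transPerm k (transPerm i p) := by
  have h : ∀ i k : Fin 16, allBelow 24 (fun a =>
      app (octadTranslations.getD i 0) (app (octadTranslations.getD k 0) a) ==
        app (octadTranslations.getD k 0) (app (octadTranslations.getD i 0) a)) = true := by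
    decide +kernel
  have hlt : ∀ i : Fin 16, ∀ a < 24, app (octadTranslations.getD i 0) a < 24 := by decide +kernel
  have e := beq_iff_eq.1 (allBelow_iff.1 (h i k) _ (idx_lt p))
  simp only [transPerm_apply, tableFun]
  rw [idx_pt (hlt _ _ (idx_lt p)), idx_pt (hlt _ _ (idx_lt p)), e]

theorem transPerm_sq (i : Fin 16) (p : GolayPt) : transPerm i (transPerm i p) = p := by
  have h : ∀ i : Fin 16, allBelow 24 (fun a =>
      app (octadTranslations.getD i 0) (app (octadTranslations.getD i 0) a) == a) = true := by
    decide +kernel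
  have hlt : ∀ i : Fin 16, ∀ a < 24, app (octadTranslations.getD i 0) a < 24 := by decide +kernel
  have e := beq_iff_eq.1 (allBelow_iff.1 (h i) _ (idx_lt p))
  simp only [transPerm_apply, tableFun]
  rw [idx_pt (hlt _ _ (idx_lt p)), e, pt_idx]

theorem offWord_code : ∀ j : Fin 32, isCode (offWords.getD j 0) = true := by decide +kernel

/-- A sign word off the octad. -/
def offSet (j : Fin 32) : Finset GolayPt := setOf24 (offWords.getD j 0)

theorem offSet_supports (j : Fin 32) :
    offSet j ∈ supports (golayCode : Set (GolayPt → ZMod 2)) :=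
  setOf24_mem_supports (offWord_code j)

theorem offSet_not_octO : ∀ j, ∀ p ∈ octO, p ∉ offSet j := by decide +kernel

theorem offSet_zero : ∀ p, p ∉ offSet 0 := by decide +kernel

theorem offSet_last : ∀ p, p ∈ offSet 31 ↔ p ∉ octO := by decide +kernel

/-- The constant by which a sign word changes under a translation. -/
def chi (i : Fin 16) (j : Fin 32) : Bool :=
  (offWords.getD j 0).testBit (app (octadTranslations.getD i 0) 4) !=
    (offWords.getD j 0).testBit 4

theorem offSet_trans (i : Fin 16) (j : Fin 32) (p : GolayPt) :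
    transPerm i p ∈ offSet j ↔
      (if chi i j = true ∧ p ∉ octO then p ∉ offSet j else p ∈ offSet j) := by
  have h : ∀ i : Fin 16, ∀ j : Fin 32, allBelow 24 (fun a =>
      (offWords.getD j 0).testBit (app (octadTranslations.getD i 0) a) ==
        if chi i j && !(m24BaseOctad.testBit a) then !((offWords.getD j 0).testBit a)
        else (offWords.getD j 0).testBit a) = true := by decide +kernel
  have hlt : ∀ i : Fin 16, ∀ a < 24, app (octadTranslations.getD i 0) a < 24 := by decide +kernel
  have e := beq_iff_eq.1 (allBelow_iff.1 (h i j) _ (idx_lt p))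
  simp only [transPerm_apply, tableFun, offSet, mem_setOf24, mem_octO, idx_pt (hlt _ _ (idx_lt p)), e]
  cases chi i j <;> cases m24BaseOctad.testBit (idx p) <;>
    cases (offWords.getD j 0).testBit (idx p) <;> simp

/-- An element fixing the sublattice on the octad pointwise. -/
noncomputable def kElt (x : Fin 16 × Fin 32) : Co0 :=
  monoCo0 (transPerm x.1) (transPerm_mem x.1) (offSet x.2) (offSet_supports x.2)

theorem kElt_smul (x : Fin 16 × Fin 32) (v : leechLattice) (p : GolayPt) :
    ((kElt x • v : leechLattice) : GolayPt → ℤ) p =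
      if p ∈ offSet x.2 then -(v : GolayPt → ℤ) (transPerm x.1 p)
      else (v : GolayPt → ℤ) (transPerm x.1 p) := rfl

/-- The element negating the complement of the octad. -/
noncomputable def wElt : Co0 := kElt (0, 31)

theorem wElt_smul (v : leechLattice) (p : GolayPt) :
    ((wElt • v : leechLattice) : GolayPt → ℤ) p =
      if p ∈ octO then (v : GolayPt → ℤ) p else -(v : GolayPt → ℤ) p := by
  rw [wElt, kElt_smul, transPerm_zero]
  simp only [offSet_last, ite_not]

theorem kElt_zero : kElt (0, 0) = 1 := by
  refine co0_ext fun v => Subtype.ext (funext fun p => ?_)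
  rw [kElt_smul, transPerm_zero, one_smul, if_neg (offSet_zero p)]

theorem wElt_eq_neg_mul : wElt = negCo0 * epsCo0 := by
  refine co0_ext fun v => Subtype.ext (funext fun p => ?_)
  rw [wElt_smul, mul_smul, negCo0_smul, Pi.neg_apply, epsCo0_smul]
  split_ifs <;> simp

theorem kElt_mem_fixK (x : Fin 16 × Fin 32) : kElt x ∈ fixK := by
  refine mem_fixK.2 fun q hq => Subtype.ext (funext fun p => ?_)
  rw [kElt_smul]
  by_cases hp : p ∈ octO
  · rw [if_neg (offSet_not_octO _ p hp), transPerm_fix _ p hp]
  · have h0 : ∀ r, r ∉ octO → (eightL q : GolayPt → ℤ) r = 0 := fun r hr => eightL_onO hq r hr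
    rw [h0 _ hp, h0 _ (mt (transPerm_mem_octO _ p).1 hp), neg_zero, ite_self]

theorem offWord_complete : allBelow 4096 (fun m =>
    !(codeMask m &&& m24BaseOctad == 0) || offWords.contains (codeMask m)) = true := by decide +kernel

theorem fix_six {τ : Equiv.Perm GolayPt} (hτ : τ ∈ M24)
    (h : ∀ x ∈ m24Base.take 6, τ x = x) : ∃ i, τ = transPerm i := by
  have hO := (m24Base_six_spec ⟨hτ, h⟩).1
  have hq : τ (m24Base.getD 6 none) ∉ octO := by
    intro hh
    have e := τ.injective (hO _ hh)
    exact absurd (e ▸ hh) (by decide +kernel : m24Base.getD 6 none ∉ octO)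
  obtain ⟨i, hi⟩ := transPerm_transitive (m24Base.getD 6 none) _ (by decide +kernel) hq
  refine ⟨i, M24_ext hτ (transPerm_mem i) fun x hx => ?_⟩
  rcases List.mem_append.1
    (show x ∈ m24Base.take 6 ++ [m24Base.getD 6 none] from hx) with hx | hx
  · rw [h x hx, transPerm_fix i x]
    exact (by decide +kernel : ∀ x ∈ m24Base.take 6, x ∈ octO) x hx
  · rw [List.mem_singleton.1 hx, hi]

theorem exists_kElt {g : Co0} (hg : g ∈ fixK) : ∃ x, g = kElt x := by
  have h0 : eightL none ∈ ({v | OnO (v : GolayPt → ℤ)} : Set leechLattice) :=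
    eightL_onO (by decide +kernel)
  have hP : PreservesCross g := preservesCross_of_mem (q := none) (by
    rw [fixK_onO hg h0]; exact mem_stdCross_iff.mpr ⟨none, Or.inl rfl⟩)
  obtain ⟨τ, hτ, c, hc, rfl⟩ := eq_monoCo0 hP
  have hp : ∀ p ∈ octO, τ⁻¹ p = p ∧ p ∉ c := by
    intro p hpO
    have e := congrArg Subtype.val (mem_fixK.1 hg p hpO)
    rw [monoCo0_eight] at e
    have e1 := congrFun e (τ⁻¹ p)
    by_cases hne : τ⁻¹ p = p
    · refine ⟨hne, fun hmem => ?_⟩
      rw [hne] at e
      have := congrFun e p
      rw [if_pos hmem] at this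
      simp [eightL, eight] at this
    · generalize τ⁻¹ p = r at e1 hne
      split at e1 <;> simp [eightL, eight, Pi.single_apply, hne] at e1
  have hfix : ∀ p ∈ octO, τ p = p := fun p hpO => by
    conv_lhs => rw [← (hp p hpO).1]
    exact perm_apply_inv τ p
  obtain ⟨i, rfl⟩ := fix_six hτ fun x hx =>
    hfix x ((by decide +kernel : ∀ x ∈ m24Base.take 6, x ∈ octO) x hx)
  obtain ⟨m, hm, e⟩ := exists_codeMask ((mem_supports_iff c).1 hc)
  have hand : codeMask m &&& m24BaseOctad = 0 := by
    refine Nat.eq_of_testBit_eq fun a => ?_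
    rw [Nat.testBit_and, Nat.zero_testBit, Bool.and_eq_false_iff]
    by_cases ha : a < 24
    · by_cases hb : m24BaseOctad.testBit a = true
      · left
        have hpO : pt a ∈ octO := by rw [mem_octO, idx_pt ha]; exact hb
        have := (hp _ hpO).2
        rw [← setOf24_maskOf c, e, mem_setOf24, idx_pt ha] at this
        simpa using this
      · right; simpa using hb
    · right
      exact Nat.testBit_lt_two_pow (lt_of_lt_of_le (by decide : m24BaseOctad < 2 ^ 24)
        (Nat.pow_le_pow_right (by norm_num) (by omega)))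
  have hcon := allBelow_iff.1 offWord_complete m hm
  rw [hand] at hcon
  simp only [beq_self_eq_true, Bool.not_true, Bool.false_or, List.contains_iff_mem] at hcon
  obtain ⟨j, hj, hje⟩ := List.getElem_of_mem hcon
  refine ⟨(i, ⟨j, hj⟩), monoCo0_congr rfl ?_⟩
  rw [offSet, List.getD_eq_getElem _ _ hj, hje, ← e, setOf24_maskOf]

theorem kElt_injective : Function.Injective kElt := by
  intro x y h
  have e := @monoOf_injective (⟨transPerm x.1, transPerm_mem x.1⟩, ⟨offSet x.2, offSet_supports x.2⟩)
    (⟨transPerm y.1, transPerm_mem y.1⟩, ⟨offSet y.2, offSet_supports y.2⟩) h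
  simp only [Prod.mk.injEq, Subtype.mk.injEq] at e
  have h1 : ∀ i k : Fin 16, tableFun (octadTranslations.getD i 0) (pt 4) =
      tableFun (octadTranslations.getD k 0) (pt 4) → i = k := by decide +kernel
  have h2 : ∀ j l : Fin 32, offWords.getD j 0 = offWords.getD l 0 → j = l := by decide +kernel
  refine Prod.ext (h1 _ _ (congrArg (fun σ : Equiv.Perm GolayPt => σ (pt 4)) e.1)) (h2 _ _ ?_)
  exact setOf24_inj (isCode_lt (offWord_code _)) (isCode_lt (offWord_code _)) e.2

theorem fixK_eq_range : (fixK : Set Co0) = Set.range kElt := by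
  ext g
  exact ⟨fun h => (exists_kElt h).imp fun x e => e.symm, by rintro ⟨x, rfl⟩; exact kElt_mem_fixK x⟩

theorem card_fixK : Nat.card fixK = 2 ^ 9 := by
  show Nat.card ↥(fixK : Set Co0) = _
  rw [fixK_eq_range, Nat.card_range_of_injective kElt_injective]
  simp

theorem fixK_le_C0 : fixK ≤ C0 := fun g hg => by
  obtain ⟨x, rfl⟩ := exists_kElt hg
  exact mono_mem_C0 _ _ (transPerm_mem_octO x.1)

theorem wElt_mem : wElt ∈ fixK := kElt_mem_fixK _

theorem wElt_ne_one : wElt ≠ 1 := by
  rw [wElt, ← kElt_zero]
  exact fun h => absurd (kElt_injective h) (by decide)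

theorem negCo0_not_mem : negCo0 ∉ fixK := fun h => by
  have h1 := congrFun (congrArg Subtype.val (mem_fixK.1 h none (by decide +kernel))) none
  rw [negCo0_smul] at h1
  simp [eightL, eight] at h1

theorem wElt_comm (x : Fin 16 × Fin 32) : kElt x * wElt = wElt * kElt x := by
  refine co0_ext fun v => Subtype.ext (funext fun p => ?_)
  simp only [mul_smul, kElt_smul, wElt_smul, transPerm_mem_octO]
  split_ifs <;> simp

theorem wElt_sq : wElt * wElt = 1 := by
  refine co0_ext fun v => Subtype.ext (funext fun p => ?_)
  simp only [mul_smul, wElt_smul, one_smul]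
  split_ifs <;> simp

/-- The product of two elements against the reversed product. -/
theorem kElt_mul_cases (x y : Fin 16 × Fin 32) :
    kElt x * kElt y =
      if chi x.1 y.2 = chi y.1 x.2 then kElt y * kElt x else kElt y * kElt x * wElt := by
  refine co0_ext fun v => Subtype.ext (funext fun p => ?_)
  have hc := transPerm_comm y.1 x.1 p
  split_ifs with h <;>
    simp only [mul_smul, kElt_smul, wElt_smul, offSet_trans, transPerm_mem_octO, ← hc] <;>
    cases hx : chi x.1 y.2 <;> cases hy : chi y.1 x.2 <;> simp [hx, hy] at h ⊢ <;>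
    by_cases hO : p ∈ octO <;> by_cases h1 : p ∈ offSet x.2 <;> by_cases h2 : p ∈ offSet y.2 <;>
    simp [hO, h1, h2]

theorem kElt_sq (x : Fin 16 × Fin 32) :
    kElt x * kElt x = if chi x.1 x.2 = true then wElt else 1 := by
  refine co0_ext fun v => Subtype.ext (funext fun p => ?_)
  have hs := transPerm_sq x.1 p
  split_ifs with h <;>
    simp only [mul_smul, kElt_smul, wElt_smul, one_smul, offSet_trans, hs] <;>
    by_cases hO : p ∈ octO <;> by_cases h1 : p ∈ offSet x.2 <;> simp [h, hO, h1]

theorem kElt_nondeg (x : Fin 16 × Fin 32) :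
    kElt x = 1 ∨ kElt x = wElt ∨ ∃ y, ¬ Commute (kElt x) (kElt y) := by
  have hx : ∀ x : Fin 16 × Fin 32, x = (0, 0) ∨ x = (0, 31) ∨
      (∃ j : Fin 32, chi x.1 j ≠ chi 0 x.2) ∨ ∃ i : Fin 16, chi x.1 0 ≠ chi i x.2 := by decide +kernel
  rcases hx x with rfl | rfl | h
  · exact Or.inl kElt_zero
  · exact Or.inr (Or.inl rfl)
  · refine Or.inr (Or.inr ?_)
    obtain ⟨y, hy⟩ : ∃ y : Fin 16 × Fin 32, chi x.1 y.2 ≠ chi y.1 x.2 := by
      rcases h with ⟨j, hj⟩ | ⟨i, hi⟩
      · exact ⟨(0, j), hj⟩
      · exact ⟨(i, 0), hi⟩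
    refine ⟨y, fun hc => wElt_ne_one ?_⟩
    have e := kElt_mul_cases x y
    rw [if_neg hy, hc.eq] at e
    exact (mul_eq_left.1 e.symm)

/-! ### The centralizer -/

theorem offSet_separates : ∀ p q : GolayPt, p ∉ octO → q ∉ octO → p ≠ q →
    ∃ j, ¬ (p ∈ offSet j ↔ q ∈ offSet j) := by decide +kernel

theorem const_words : allBelow 4096 (fun m =>
    !(codeMask m &&& offMask == 0 || codeMask m &&& offMask == offMask) ||
      [0, m24BaseOctad, offMask, 16777215].contains (codeMask m)) = true := by decide +kernel

/-- The derivation of the octad from its complement. -/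
def offDerivation : List FixStep :=
  [.octad 6053905, .octad 1413139, .inter 0 1, .single 2, .octad 4845570, .octad 1413139, .inter 3 4,
    .single 5, .octad 13938692, .octad 5210132, .inter 6 7, .single 8, .octad 7221256, .octad 16056344,
    .inter 9 10, .single 11, .octad 7417889, .single 12, .octad 4845570, .single 13, .octad 7221256,
    .single 14, .octad 13938692, .single 15]

theorem commute_all {g : Co0} (hg : g ∈ C0) (hcom : ∀ x, g * kElt x = kElt x * g) :
    g ∈ fixK ∨ negCo0 * g ∈ fixK := by
  have heps : ∀ v : leechLattice, epsCo0 • g • v = g • epsCo0 • v := fun v => by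
    rw [smul_smul, smul_smul, Subgroup.mem_centralizer_singleton_iff.1 hg]
  have height : ∀ p, p ∉ octO → g • eightL p = eightL p ∨ g • eightL p = -eightL p := by
    intro p hp
    set y : GolayPt → ℤ := ((g • eightL p : leechLattice) : GolayPt → ℤ) with hy
    have hfe : epsCo0 • eightL p = eightL p := Subtype.ext (funext fun q => by
      rw [epsCo0_smul]
      split_ifs with hq
      · have : eight p q = 0 := by
          rw [eight, Pi.single_apply, if_neg]; rintro rfl; exact hp hq
        show -(eight p q) = eight p q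
        rw [this, neg_zero]
      · rfl)
    have hO : ∀ q ∈ octO, y q = 0 := fun q hq => by
      have e := congrFun (congrArg Subtype.val (heps (eightL p))) q
      rw [hfe, epsCo0_smul, if_pos hq] at e
      change -(y q) = y q at e
      omega
    have hz : ∀ q, q ≠ p → y q = 0 := by
      intro q hqp
      by_cases hq : q ∈ octO
      · exact hO q hq
      obtain ⟨j, hj⟩ := offSet_separates p q hp hq (Ne.symm hqp)
      have e1 : kElt (0, j) • eightL p = if p ∈ offSet j then -eightL p else eightL p := by
        refine Subtype.ext (funext fun r => ?_)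
        rw [kElt_smul, transPerm_zero]
        by_cases hr : r = p
        · subst hr; split_ifs <;> rfl
        · have h0 : (eightL p : GolayPt → ℤ) r = 0 := by simp [eightL, eight, hr]
          split_ifs <;> simp [h0]
      have e2 := congrArg (fun u : leechLattice => (u : GolayPt → ℤ) q) (congrArg (g • ·) e1)
      simp only [smul_smul, hcom (0, j)] at e2
      rw [mul_smul, kElt_smul, transPerm_zero, apply_ite (fun u : leechLattice => g • u), co0_neg] at e2
      change (if q ∈ offSet j then -y q else y q) = _ at e2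
      by_cases hpj : p ∈ offSet j
      · rw [if_neg (fun hqj => hj (iff_of_true hpj hqj)), if_pos hpj] at e2
        change y q = -y q at e2
        omega
      · rw [if_pos (not_not.1 fun hqj => hj (iff_of_false hpj hqj)), if_neg hpj] at e2
        change -y q = y q at e2
        omega
    have hn : sqNorm y = 64 := by rw [hy, co0_norm]; exact sqNorm_eight p
    rw [sqNorm, Finset.sum_eq_single p (fun q _ hq => by rw [hz q hq]; rfl) (by simp)] at hn
    have h8 : y p = 8 ∨ y p = -8 := sq_eq_sq_iff_eq_or_eq_neg.1 (hn.trans (by norm_num : (64 : ℤ) = 8 ^ 2))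
    rcases h8 with e | e
    · refine Or.inl (Subtype.ext (funext fun q => ?_))
      by_cases hq : q = p
      · subst hq; exact e.trans (by simp [eightL, eight])
      · exact (hz q hq).trans (by simp [eightL, eight, hq])
    · refine Or.inr (Subtype.ext (funext fun q => ?_))
      rw [AddSubgroup.coe_neg, Pi.neg_apply]
      by_cases hq : q = p
      · subst hq; exact e.trans (by simp [eightL, eight])
      · exact (hz q hq).trans (by simp [eightL, eight, hq])
  obtain ⟨p0, hp0⟩ : ∃ p, p ∉ octO := by decide +kernel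
  have hP : PreservesCross g := preservesCross_of_mem (q := p0) (by
    rcases height p0 hp0 with e | e <;> rw [e]
    · exact mem_stdCross_iff.mpr ⟨p0, Or.inl rfl⟩
    · exact mem_stdCross_iff.mpr ⟨p0, Or.inr rfl⟩)
  obtain ⟨τ, hτ, c, hc, rfl⟩ := eq_monoCo0 hP
  have hfix : ∀ p, p ∉ octO → τ⁻¹ p = p := by
    intro p hp
    by_contra hne
    have e := congrFun (monoCo0_eight τ hτ c hc p) (τ⁻¹ p)
    generalize τ⁻¹ p = r at e hne
    rcases height p hp with h | h <;> rw [h] at e <;>
      split at e <;> simp [eightL, eight, Pi.single_apply, hne] at e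
  have hτ1 : τ = 1 := by
    refine derivesAll_sound hτ offDerivation offMask [] (fun p hp => ?_) (by simp) (by decide +kernel)
    have hpO : p ∉ octO := (by decide +kernel : ∀ p ∈ setOf24 offMask, p ∉ octO) p hp
    conv_lhs => rw [← hfix p hpO]
    exact perm_apply_inv τ p
  subst hτ1
  have hconst : ∀ p q, p ∉ octO → q ∉ octO → (p ∈ c ↔ q ∈ c) := by
    intro p q hp hq
    obtain ⟨i, hi⟩ := transPerm_transitive q p hq hp
    have e := congrFun (congrArg (fun u : leechLattice => (u : GolayPt → ℤ))
      (congrArg (fun k : Co0 => k • eightL p) (hcom (i, 0)))) q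
    simp only [mul_smul, kElt_smul, monoCo0_smul, monoFun, Equiv.Perm.one_apply, hi,
      if_neg (offSet_zero _)] at e
    have h8 : (eightL p : GolayPt → ℤ) p = 8 := by simp [eightL, eight]
    rw [h8] at e
    by_cases h1 : p ∈ c <;> by_cases h2 : q ∈ c <;> simp [h1, h2] at e ⊢
  obtain ⟨m, hm, e⟩ := exists_codeMask ((mem_supports_iff c).1 hc)
  have hmem : ∀ a < 24, (maskOf c).testBit a = true ↔ pt a ∈ c := fun a ha => by
    conv_rhs => rw [← setOf24_maskOf c, mem_setOf24, idx_pt ha]
  have hand : codeMask m &&& offMask = 0 ∨ codeMask m &&& offMask = offMask := by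
    have hoff : ∀ a, offMask.testBit a = true → a < 24 ∧ pt a ∉ octO := by
      intro a ha
      have hlt : a < 24 := by
        by_contra h24
        rw [Nat.testBit_lt_two_pow (lt_of_lt_of_le (by decide : offMask < 2 ^ 24)
          (Nat.pow_le_pow_right (by norm_num) (by omega)))] at ha
        simp at ha
      exact ⟨hlt, (by decide +kernel : ∀ a < 24, offMask.testBit a = true → pt a ∉ octO) a hlt ha⟩
    by_cases h0 : p0 ∈ c
    · right
      refine Nat.eq_of_testBit_eq fun a => ?_
      rw [Nat.testBit_and, ← e]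
      cases ha : offMask.testBit a
      · simp
      · obtain ⟨hlt, hpa⟩ := hoff a ha
        rw [(hmem a hlt).2 ((hconst p0 _ hp0 hpa).1 h0)]
        rfl
    · left
      refine Nat.eq_of_testBit_eq fun a => ?_
      rw [Nat.testBit_and, ← e, Nat.zero_testBit]
      cases ha : offMask.testBit a
      · simp
      · obtain ⟨hlt, hpa⟩ := hoff a ha
        cases hb : (maskOf c).testBit a
        · rfl
        · exact absurd ((hconst p0 _ hp0 hpa).2 ((hmem a hlt).1 hb)) h0
  have h4 := allBelow_iff.1 const_words m hm
  have hcond : (codeMask m &&& offMask == 0 || codeMask m &&& offMask == offMask) = true := by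
    rcases hand with h | h <;> rw [h] <;> simp
  rw [hcond] at h4
  simp only [Bool.not_true, Bool.false_or, List.contains_iff_mem, List.mem_cons, List.not_mem_nil,
    or_false] at h4
  have hc' : c = setOf24 (codeMask m) := by rw [← e, setOf24_maskOf]
  have hsmul : ∀ v : leechLattice, ∀ p, ((monoCo0 1 hτ c hc • v : leechLattice) : GolayPt → ℤ) p =
      if p ∈ c then -(v : GolayPt → ℤ) p else (v : GolayPt → ℤ) p := fun v p => rfl
  have hoct : ∀ p, p ∈ setOf24 offMask ↔ p ∉ octO := by decide +kernel
  rcases h4 with h | h | h | h <;> rw [h] at hc'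
  · refine Or.inl (mem_fixK.2 fun p hp => Subtype.ext (funext fun q => ?_))
    rw [hsmul, hc', setOf24_zero, if_neg (Finset.notMem_empty q)]
  · refine Or.inr (mem_fixK.2 fun p hp => Subtype.ext (funext fun q => ?_))
    rw [mul_smul, negCo0_smul, Pi.neg_apply, hsmul, hc']
    by_cases hq : q ∈ octO
    · rw [if_pos (show q ∈ setOf24 m24BaseOctad from hq), neg_neg]
    · rw [if_neg (show q ∉ setOf24 m24BaseOctad from hq), eightL_onO hp q hq, neg_zero]
  · refine Or.inl (mem_fixK.2 fun p hp => Subtype.ext (funext fun q => ?_))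
    rw [hsmul, hc']
    by_cases hq : q ∈ octO
    · rw [if_neg (fun h => (hoct q).1 h hq)]
    · rw [eightL_onO hp q hq, neg_zero, ite_self]
  · refine Or.inr (mem_fixK.2 fun p hp => Subtype.ext (funext fun q => ?_))
    rw [mul_smul, negCo0_smul, Pi.neg_apply, hsmul, hc', setOf24_full, if_pos (Finset.mem_univ q),
      neg_neg]

end CfsgLib.CoOneInv
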