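import Cfsg.Agent.Transpositions.SmallOrthCocycles
import Cfsg.Agent.Forms.OrthIndex
import Cfsg.Agent.CoOneInv.Kernel

/-!
The action on the sublattice modulo two: its kernel, and its image, which is the commutator subgroup of the
orthogonal group.
-/

set_option autoImplicit false

namespace CfsgLib.CoOneInv

open Cfsg CfsgLib.Mathieu CfsgLib.Leech CfsgLib.Spinor CfsgLib.StdForms CfsgLib.Transpositions
open scoped Matrix

/-- The quadratic form. -/
noncomputable abbrev Q8 : QuadraticForm (ZMod 2) (I8 → ZMod 2) := plusQ 4 (ZMod 2)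

theorem q8_apply (w : I8 → ZMod 2) : Q8 w = Cfsg.quadFormPlus 4 (ZMod 2) w :=
  congrFun (coe_plusQ 4) w

/-- The action as a homomorphism into the isometry group. -/
noncomputable def phiQ : C0 →* ↥(Cfsg.isometryGroup (ZMod 2) ⇑Q8) :=
  phiGL.codRestrict _ fun g u _ => by
    show Q8 (phiMat g *ᵥ u) = Q8 u
    rw [q8_apply, q8_apply, quad_phiMat]

theorem phiQ_mat (g : C0) : mat Q8 (phiQ g) = phiMat g := rfl

theorem psi_neg {v : leechLattice} (hv : OnO (v : GolayPt → ℤ)) :
    psi ((-v : leechLattice) : GolayPt → ℤ) = psi (v : GolayPt → ℤ) := by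
  rw [← psiHom_apply _ (onSub.neg_mem hv), ← psiHom_apply _ hv,
    show (⟨-v, onSub.neg_mem hv⟩ : onSub) = -⟨v, hv⟩ from rfl, map_neg]
  exact ZModModule.neg_eq_self _

theorem phiQ_eq_one_of_fix {g : C0} (h : ∀ v : leechLattice, OnO (v : GolayPt → ℤ) →
    (g : Co0) • v = v ∨ (g : Co0) • v = -v) : phiQ g = 1 := by
  refine mat_ext Q8 ?_
  rw [phiQ_mat, mat_one]
  ext r c
  rw [phiMat, Matrix.of_apply]
  rcases h (bV c) (bV_onO c) with e | e <;> rw [e]
  · rw [psi_bV, Matrix.one_apply, Pi.single_apply]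
  · rw [psi_neg (bV_onO c), psi_bV, Matrix.one_apply, Pi.single_apply]

theorem phiQ_fixK {g : C0} (hg : (g : Co0) ∈ fixK) : phiQ g = 1 :=
  phiQ_eq_one_of_fix fun _ hv => Or.inl (fixK_onO hg hv)

theorem negCo0_mem_C0 : negCo0 ∈ C0 :=
  Subgroup.mem_centralizer_singleton_iff.2 (Subgroup.mem_center_iff.1 negCo0_mem_center epsCo0).symm

/-- Negation in the centralizer. -/
noncomputable def negC : C0 := ⟨negCo0, negCo0_mem_C0⟩

theorem phiQ_negC : phiQ negC = 1 :=
  phiQ_eq_one_of_fix fun v _ => Or.inr (Subtype.ext (negCo0_smul v))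

/-! ### Roots -/

/-- A root with two non-zero entries. -/
def rootFun (p q : GolayPt) (s : ℤ) : GolayPt → ℤ := Pi.single p 4 + Pi.single q (4 * s)

theorem rootFun_spec : ∀ p ∈ octO, ∀ q ∈ octO, p ≠ q → ∀ b : Bool,
    leechB (rootFun p q (if b then 1 else -1)) = true ∧
      sqNorm (rootFun p q (if b then 1 else -1)) = 32 := by
  decide +kernel

/-- A root as a lattice vector. -/
def rootL (p q : GolayPt) (b : Bool) : leechLattice :=
  if h : p ∈ octO ∧ q ∈ octO ∧ p ≠ q then
    ⟨rootFun p q (if b then 1 else -1), leechB_iff.1 (rootFun_spec p h.1 q h.2.1 h.2.2 b).1⟩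
  else 0

theorem rootL_coe {p q : GolayPt} (hp : p ∈ octO) (hq : q ∈ octO) (hne : p ≠ q) (b : Bool) :
    (rootL p q b : GolayPt → ℤ) = rootFun p q (if b then 1 else -1) := by
  rw [rootL, dif_pos ⟨hp, hq, hne⟩]

theorem rootL_onO {p q : GolayPt} (hp : p ∈ octO) (hq : q ∈ octO) (hne : p ≠ q) (b : Bool) :
    OnO (rootL p q b : GolayPt → ℤ) := fun r hr => by
  rw [rootL_coe hp hq hne]
  have h1 : r ≠ p := fun e => hr (e ▸ hp)
  have h2 : r ≠ q := fun e => hr (e ▸ hq)
  simp [rootFun, h1, h2]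

theorem rootL_norm {p q : GolayPt} (hp : p ∈ octO) (hq : q ∈ octO) (hne : p ≠ q) (b : Bool) :
    sqNorm (rootL p q b : GolayPt → ℤ) = 32 := by
  rw [rootL_coe hp hq hne]
  exact (rootFun_spec p hp q hq hne b).2

theorem rootL_add {p q : GolayPt} (hp : p ∈ octO) (hq : q ∈ octO) (hne : p ≠ q) :
    rootL p q true + rootL p q false = eightL p ∧ rootL p q true - rootL p q false = eightL q := by
  constructor <;> refine Subtype.ext (funext fun r => ?_)
  · rw [AddSubgroup.coe_add, rootL_coe hp hq hne, rootL_coe hp hq hne]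
    simp only [rootFun, eightL, eight, Pi.add_apply, Pi.single_apply]
    split_ifs <;> simp_all
  · rw [AddSubgroup.coe_sub, rootL_coe hp hq hne, rootL_coe hp hq hne]
    simp only [rootFun, eightL, eight, Pi.add_apply, Pi.sub_apply, Pi.single_apply]
    split_ifs <;> simp_all

/-- The kernel is the pointwise stabiliser, up to sign. -/
theorem ker_phiQ (g : C0) (h : phiQ g = 1) : (g : Co0) ∈ fixK ∨ negCo0 * (g : Co0) ∈ fixK := by
  have hM : phiMat g = 1 := by rw [← phiQ_mat, h, mat_one]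
  have hn : (none : GolayPt) ∈ octO := by decide +kernel
  have hroot : ∀ q ∈ octO, q ≠ none → ∀ b, ∃ s : ℤ, (s = 1 ∨ s = -1) ∧
      (g : Co0) • rootL none q b = s • rootL none q b := by
    intro q hq hne b
    rcases smul_root_cases g _ (rootL_onO hn hq hne.symm b) (rootL_norm hn hq hne.symm b)
        (by rw [hM, Matrix.one_mulVec]) with e | e
    · exact ⟨1, Or.inl rfl, by rw [e, one_smul]⟩
    · exact ⟨-1, Or.inr rfl, by rw [e, neg_smul, one_smul]⟩
  choose! s hs hsm using hroot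
  have hsame : ∀ q ∈ octO, ∀ q' ∈ octO, q ≠ none → q' ≠ none → q ≠ q' → ∀ b b',
      s q b = s q' b' := by
    intro q hq q' hq' hne hne' hqq b b'
    have hd := co0_dot (g : Co0) (rootL none q b) (rootL none q' b')
    rw [hsm q hq hne b, hsm q' hq' hne' b', AddSubgroup.coe_zsmul, AddSubgroup.coe_zsmul,
      rootL_coe hn hq hne.symm, rootL_coe hn hq' hne'.symm] at hd
    have h16 : dotInt (rootFun none q (if b then 1 else -1)) (rootFun none q' (if b' then 1 else -1)) =
        16 :=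
      (by decide +kernel : ∀ q ∈ octO, ∀ q' ∈ octO, q ≠ none → q' ≠ none → q ≠ q' → ∀ b b' : Bool,
        dotInt (rootFun none q (if b then 1 else -1)) (rootFun none q' (if b' then 1 else -1)) = 16)
        q hq q' hq' hne hne' hqq b b'
    have e : ∀ (x y : GolayPt → ℤ) (a c : ℤ), dotInt (a • x) (c • y) = a * c * dotInt x y :=
      fun x y a c => by
        simp only [dotInt, Pi.smul_apply, smul_eq_mul, Finset.mul_sum]
        exact Finset.sum_congr rfl fun i _ => by ring
    rw [e, h16] at hd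
    rcases hs q hq hne b with u | u <;> rcases hs q' hq' hne' b' with w | w <;> simp [u, w] at hd ⊢
  have h0 : pt 0 ∈ octO ∧ pt 0 ≠ none ∧ pt 1 ∈ octO ∧ pt 1 ≠ none ∧ pt 1 ≠ pt 0 := by decide +kernel
  obtain ⟨ha, hane, hb, hbne, hba⟩ := h0
  set t := s (pt 0) true with ht
  have hall : ∀ q ∈ octO, q ≠ none → ∀ b, s q b = t := by
    intro q hq hne b
    by_cases hqa : q = pt 0
    · subst hqa
      exact (hsame _ ha _ hb hane hbne (Ne.symm hba) b true).trans
        (hsame _ hb _ ha hbne hane hba true true)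
    · exact hsame q hq _ ha hne hane hqa b true
  have hfix : ∀ p ∈ octO, (g : Co0) • eightL p = t • eightL p := by
    intro p hp
    by_cases hpn : p = none
    · subst hpn
      rw [← (rootL_add hn ha hane.symm).1, co0_add, hsm _ ha hane, hsm _ ha hane,
        hall _ ha hane, hall _ ha hane, smul_add]
    · rw [← (rootL_add hn hp (Ne.symm hpn)).2, co0_sub, hsm _ hp hpn, hsm _ hp hpn,
        hall _ hp hpn, hall _ hp hpn, smul_sub]
  rcases hs _ ha hane true with e | e
  · exact Or.inl (mem_fixK.2 fun p hp => by rw [hfix p hp, ht, e, one_smul])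
  · refine Or.inr (mem_fixK.2 fun p hp => ?_)
    rw [mul_smul, hfix p hp, ht, e, neg_smul, one_smul]
    exact Subtype.ext (by rw [negCo0_smul, AddSubgroup.coe_neg, neg_neg])

/-! ### Elements given by moves -/

/-- The sign change as a move. -/
def epsMv : Mv := .mono (octadTranslations.getD 0 0) m24BaseOctad

theorem epsMv_spec (l : List ℤ) (hl : vec l ∈ leechLattice) :
    ((epsCo0 • (⟨vec l, hl⟩ : leechLattice) : leechLattice) : GolayPt → ℤ) = vec (epsMv.act l) := by
  funext p
  rw [epsCo0_smul, epsMv, Mv.act, vec_map_range]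
  have h : ∀ a < 24, app (octadTranslations.getD 0 0) a = a := by decide +kernel
  rw [h _ (idx_lt p)]
  simp only [mem_octO, vec]

/-- The checks making a move list an element of the centralizer. -/
def movesOK (ms : List Mv) : Bool :=
  ms.all Mv.ok && (List.range 24).all fun j =>
    runMoves (epsMv :: ms) ((List.range 24).map fun i => if i = j then (8 : ℤ) else 0) ==
      runMoves (ms ++ [epsMv]) ((List.range 24).map fun i => if i = j then (8 : ℤ) else 0)

theorem exists_elt {ms : List Mv} (h : movesOK ms = true) : ∃ g : C0, ∀ (l : List ℤ)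
    (hl : vec l ∈ leechLattice),
    (((g : Co0) • (⟨vec l, hl⟩ : leechLattice) : leechLattice) : GolayPt → ℤ) = vec (runMoves ms l) := by
  simp only [movesOK, Bool.and_eq_true] at h
  obtain ⟨g, -, hg⟩ := runMoves_spec ms h.1
  have hm : ∀ (l : List ℤ) (hl : vec l ∈ leechLattice), vec (epsMv.act l) ∈ leechLattice := fun l hl => by
    rw [← epsMv_spec l hl]; exact (epsCo0 • (⟨vec l, hl⟩ : leechLattice)).2
  have hr : ∀ (l : List ℤ) (hl : vec l ∈ leechLattice), vec (runMoves ms l) ∈ leechLattice := fun l hl => by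
    rw [← hg l hl]; exact (g • (⟨vec l, hl⟩ : leechLattice)).2
  refine ⟨⟨g, Subgroup.mem_centralizer_singleton_iff.2
    (co0_eq_of_moves (a := epsMv :: ms) (b := ms ++ [epsMv]) ?_ ?_ h.2)⟩, hg⟩
  · intro l hl
    rw [mul_smul, show epsCo0 • (⟨vec l, hl⟩ : leechLattice) = ⟨_, hm l hl⟩ from
      Subtype.ext (epsMv_spec l hl), hg]
    rfl
  · intro l hl
    rw [mul_smul, show g • (⟨vec l, hl⟩ : leechLattice) = ⟨_, hr l hl⟩ from Subtype.ext (hg l hl),
      epsMv_spec]
    simp [runMoves, List.foldl_append]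

theorem phiMat_of_moves {g : C0} {ms : List Mv} (hg : ∀ (l : List ℤ) (hl : vec l ∈ leechLattice),
    (((g : Co0) • (⟨vec l, hl⟩ : leechLattice) : leechLattice) : GolayPt → ℤ) = vec (runMoves ms l))
    (c : I8) : (fun r => phiMat g r c) = psi (vec (runMoves ms (bL c))) := by
  funext r
  rw [phiMat, Matrix.of_apply]
  exact congrArg (fun x => psi x r) (hg (bL c) (leechB_iff.1 (bL_spec c).1))

/-! ### The image contains the commutator subgroup -/

/-- A vector from its code. -/
def vecOf (k : ℕ) : I8 → ZMod 2 :=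
  Sum.elim (fun i => if k.testBit i.val then 1 else 0) (fun i => if k.testBit (i.val + 4) then 1 else 0)

/-- A transvection applied to a vector. -/
def tvFun (u x : I8 → ZMod 2) : I8 → ZMod 2 :=
  x + QuadraticMap.polar (Cfsg.quadFormPlus 4 (ZMod 2)) u x • u

/-- The vectors whose transvection times the base one is in the image. -/
def InImage (v : I8 → ZMod 2) : Prop :=
  ∃ (hu : Q8 u0 = 1) (hv : Q8 v = 1), tv Q8 u0 hu * tv Q8 v hv ∈ phiQ.range

theorem u0_quad : Q8 u0 = 1 := by rw [q8_apply]; decide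

theorem inImage_u0 : InImage u0 :=
  ⟨u0_quad, u0_quad, by rw [tv_mul_self]; exact one_mem _⟩

theorem inImage_seed : ∀ x ∈ seedList, InImage x.2 := by
  have hchk : ∀ x ∈ seedList, movesOK x.1 = true ∧ Cfsg.quadFormPlus 4 (ZMod 2) x.2 = 1 ∧
      ∀ c, psi (vec (runMoves x.1 (bL c))) = tvFun u0 (tvFun x.2 (Pi.single c 1)) := by
    decide +kernel
  intro x hx
  obtain ⟨h1, h2, h3⟩ := hchk x hx
  obtain ⟨g, hg⟩ := exists_elt h1
  refine ⟨u0_quad, by rw [q8_apply, h2], g, mat_ext Q8 ?_⟩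
  rw [phiQ_mat]
  refine Matrix.ext fun r c => ?_
  have e1 := congrFun (phiMat_of_moves hg c) r
  rw [h3 c] at e1
  rw [e1, mat_mul]
  have e2 : (mat Q8 (tv Q8 u0 u0_quad) * mat Q8 (tv Q8 x.2 (by rw [q8_apply, h2]))) *ᵥ Pi.single c 1 =
      tvFun u0 (tvFun x.2 (Pi.single c 1)) := by
    rw [← Matrix.mulVec_mulVec, tv_apply, tv_apply]
    simp only [tvFun, ← coe_plusQ]
  rw [← e2, Matrix.mulVec_single_one]
  rfl

theorem InImage.move {g : C0} {v : I8 → ZMod 2} (hgu : InImage (phiMat g *ᵥ u0)) (hv : InImage v) :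
    InImage (phiMat g *ᵥ v) := by
  obtain ⟨hu, hv, hm⟩ := hv
  obtain ⟨_, hgu', hm'⟩ := hgu
  have hgv : Q8 (phiMat g *ᵥ v) = 1 := by rw [← phiQ_mat, quad_mulVec, hv]
  refine ⟨hu, hgv, ?_⟩
  have e1 : phiQ g * tv Q8 u0 hu * (phiQ g)⁻¹ = tv Q8 (phiMat g *ᵥ u0) hgu' :=
    conj_reflIso Q8 (phiQ g) u0 _
  have e2 : phiQ g * tv Q8 v hv * (phiQ g)⁻¹ = tv Q8 (phiMat g *ᵥ v) hgv :=
    conj_reflIso Q8 (phiQ g) v _
  have e : tv Q8 u0 hu * tv Q8 (phiMat g *ᵥ v) hgv =
      (tv Q8 u0 hu * tv Q8 (phiMat g *ᵥ u0) hgu') *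
        (phiQ g * (tv Q8 u0 hu * tv Q8 v hv) * (phiQ g)⁻¹) := by
    rw [← conj_mul, e1, e2, mul_assoc, ← mul_assoc (tv Q8 (phiMat g *ᵥ u0) hgu'), tv_mul_self, one_mul]
  rw [e]
  exact mul_mem hm' (mul_mem (mul_mem ⟨g, rfl⟩ hm) (inv_mem ⟨g, rfl⟩))

/-- Saturating a list of vector codes under the generators. -/
def growN : List (List Mv × List ℕ) → List ℕ → List ℕ
  | [], L => L
  | (_, M) :: rest, L =>
    if L.contains (xorSel M 38) then
      growN rest (L ++ (L.map (xorSel M)).filter fun k => !L.contains k)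
    else L

theorem genList_spec : ∀ x ∈ genList, movesOK x.1 = true ∧
    (∀ c : Fin 4, psi (vec (runMoves x.1 (bL (.inl c)))) = vecOf (x.2.getD c.val 0) ∧
      psi (vec (runMoves x.1 (bL (.inr c)))) = vecOf (x.2.getD (c.val + 4) 0)) ∧
    x.2.length = 8 := by
  decide +kernel

theorem vecOf_xor (a b : ℕ) : vecOf (a ^^^ b) = vecOf a + vecOf b := by
  funext c
  have h : ∀ u v : Bool, (if (u != v) = true then (1 : ZMod 2) else 0) =
      (if u = true then 1 else 0) + (if v = true then 1 else 0) := by decide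
  cases c <;> simp only [vecOf, Pi.add_apply, Sum.elim_inl, Sum.elim_inr, Nat.testBit_xor, h]

theorem vecOf_ite (P : Prop) [Decidable P] (a : ℕ) :
    vecOf (if P then a else 0) = (if P then (1 : ZMod 2) else 0) • vecOf a := by
  split_ifs
  · rw [one_smul]
  · rw [zero_smul]; funext c; cases c <;> simp [vecOf]

theorem vecOf_xorSel (M : List ℕ) (hM : M.length = 8) (n : ℕ) (r : I8) :
    vecOf (xorSel M n) r =
      ∑ c : I8, vecOf (M.getD (Sum.elim (fun i => i.val) (fun i => i.val + 4) c) 0) r * vecOf n c := by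
  match M, hM with
  | [a, b, c, d, e, f, g, h], _ =>
    have h0 : vecOf 0 = 0 := by decide
    have hl : ∀ i : Fin 4, vecOf n (.inl i) = if n / 2 ^ i.val % 2 = 1 then 1 else 0 := fun i => by
      simp only [vecOf, Sum.elim_inl, Nat.testBit_eq_decide_div_mod_eq, decide_eq_true_eq]
    have hr : ∀ i : Fin 4, vecOf n (.inr i) = if n / 2 ^ (i.val + 4) % 2 = 1 then 1 else 0 := fun i => by
      simp only [vecOf, Sum.elim_inr, Nat.testBit_eq_decide_div_mod_eq, decide_eq_true_eq]
    simp only [Fintype.sum_sum_type, Fin.sum_univ_four, hl, hr, xorSel, vecOf_xor, vecOf_ite, h0,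
      Nat.div_div_eq_div_mul, Pi.add_apply, Pi.smul_apply, smul_eq_mul]
    simp
    ring

theorem growN_spec : ∀ (gs : List (List Mv × List ℕ)) (L : List ℕ), (∀ x ∈ gs, x ∈ genList) →
    (∀ k ∈ L, k < 256 ∧ InImage (vecOf k)) → ∀ k ∈ growN gs L, InImage (vecOf k)
  | [], L, _, hL, k, hk => (hL k hk).2
  | (ms, M) :: rest, L, hgs, hL, k, hk => by
    rw [growN] at hk
    split at hk
    · rename_i hc
      rw [List.contains_iff_mem] at hc
      obtain ⟨h1, h3, hlen⟩ := genList_spec (ms, M) (hgs _ List.mem_cons_self)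
      obtain ⟨g, hg⟩ := exists_elt h1
      have hap : ∀ n < 256, phiMat g *ᵥ vecOf n = vecOf (xorSel M n) := fun n hn => funext fun r => by
        rw [vecOf_xorSel M hlen]
        show ∑ c, phiMat g r c * vecOf n c = _
        refine Finset.sum_congr rfl fun c _ => ?_
        rw [show phiMat g r c = psi (vec (runMoves ms (bL c))) r from congrFun (phiMat_of_moves hg c) r]
        rcases c with c | c
        · rw [(h3 c).1]; rfl
        · rw [(h3 c).2]; rfl
      have hlt : ∀ x ∈ genList, ∀ n : Fin 256, xorSel x.2 n < 256 := by decide +kernel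
      refine growN_spec rest _ (fun x hx => hgs x (List.mem_cons_of_mem _ hx)) ?_ k hk
      intro n hn
      rcases List.mem_append.1 hn with hn | hn
      · exact hL n hn
      · obtain ⟨m, hm, rfl⟩ := List.mem_map.1 (List.mem_filter.1 hn).1
        obtain ⟨hm1, hm2⟩ := hL m hm
        refine ⟨hlt (ms, M) (hgs _ List.mem_cons_self) ⟨m, hm1⟩, ?_⟩
        rw [← hap m hm1]
        refine InImage.move ?_ hm2
        rw [show u0 = vecOf 38 by decide +kernel, hap 38 (by norm_num)]
        exact (hL _ hc).2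
    · exact (hL k hk).2

theorem inImage_all (v : I8 → ZMod 2) (hv : Q8 v = 1) : InImage v := by
  have h : ∀ v : I8 → ZMod 2, Cfsg.quadFormPlus 4 (ZMod 2) v = 1 →
      v ∈ (growN genList [38, 46, 68]).map vecOf := by decide +kernel
  obtain ⟨k, hk, rfl⟩ := List.mem_map.1 (h v (by rw [← q8_apply]; exact hv))
  refine growN_spec genList _ (fun x hx => hx) ?_ k hk
  have e : ∀ k ∈ [38, 46, 68], k < 256 ∧
      (vecOf k = u0 ∨ ∃ x ∈ seedList, vecOf k = x.2) := by decide +kernel
  intro n hn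
  obtain ⟨h1, h2⟩ := e n hn
  refine ⟨h1, ?_⟩
  rcases h2 with h2 | ⟨x, hx, h2⟩ <;> rw [h2]
  exacts [inImage_u0, inImage_seed x hx]

theorem omega_le_range : Cfsg.Omega (ZMod 2) ⇑Q8 ≤ phiQ.range := by
  refine omega_le_pairs_plusFour.trans ((Subgroup.closure_le _).2 ?_)
  rintro _ ⟨u, v, hu, hv, rfl⟩
  obtain ⟨h0, hu', hmu⟩ := inImage_all u hu
  obtain ⟨_, hv', hmv⟩ := inImage_all v hv
  have e : tv Q8 u hu * tv Q8 v hv =
      (tv Q8 u0 h0 * tv Q8 u hu')⁻¹ * (tv Q8 u0 h0 * tv Q8 v hv') := by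
    rw [_root_.mul_inv_rev, tv_inv, tv_inv, mul_assoc, ← mul_assoc (tv Q8 u0 h0), tv_mul_self, one_mul]
  rw [e]
  exact mul_mem (inv_mem hmu) hmv

/-! ### The image is proper -/

theorem tv_u0_not_mem : tv Q8 u0 u0_quad ∉ phiQ.range := by
  rintro ⟨g, hg⟩
  have hM : ∀ x, phiMat g *ᵥ x = tvFun u0 x := fun x => by
    rw [← phiQ_mat, hg, tv_apply]
    simp only [tvFun, ← coe_plusQ]
  have hpts : pt 14 ∈ octO ∧ pt 17 ∈ octO ∧ pt 14 ≠ pt 17 ∧ pt 0 ∈ octO ∧ pt 14 ≠ pt 0 := by
    decide +kernel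
  obtain ⟨ha, hb, hab, hx, hax⟩ := hpts
  have hfixed : ∀ p q b, (hp : p ∈ octO) → (hq : q ∈ octO) → (hne : p ≠ q) →
      tvFun u0 (psi (rootFun p q (if b then 1 else -1))) = psi (rootFun p q (if b then 1 else -1)) →
      (g : Co0) • rootL p q b = rootL p q b ∨ (g : Co0) • rootL p q b = -rootL p q b := by
    intro p q b hp hq hne h
    refine smul_root_cases g _ (rootL_onO hp hq hne b) (rootL_norm hp hq hne b) ?_
    rw [hM, rootL_coe hp hq hne b, h]
  have hfa : ∀ b : Bool, tvFun u0 (psi (rootFun (pt 14) (pt 17) (if b then 1 else -1))) =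
      psi (rootFun (pt 14) (pt 17) (if b then 1 else -1)) := by decide +kernel
  have hP : PreservesCross (g : Co0) := preservesCross_of_mem (q := pt 14) (by
    have hcross : ∀ q, ((eightL q : leechLattice) : GolayPt → ℤ) ∈ stdCross ∧
        ((-eightL q : leechLattice) : GolayPt → ℤ) ∈ stdCross := fun q =>
      ⟨mem_stdCross_iff.mpr ⟨q, Or.inl rfl⟩, mem_stdCross_iff.mpr ⟨q, Or.inr rfl⟩⟩
    obtain ⟨e1, e2⟩ := rootL_add ha hb hab
    conv in eightL (pt 14) => rw [← e1]
    rw [co0_add]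
    rcases hfixed _ _ true ha hb hab (hfa true) with u | u <;>
      rcases hfixed _ _ false ha hb hab (hfa false) with w | w <;> rw [u, w]
    · rw [e1]; exact (hcross _).1
    · rw [← sub_eq_add_neg, e2]; exact (hcross _).1
    · rw [show -rootL (pt 14) (pt 17) true + rootL (pt 14) (pt 17) false =
        -(rootL (pt 14) (pt 17) true - rootL (pt 14) (pt 17) false) by abel, e2]
      exact (hcross _).2
    · rw [← neg_add, e1]; exact (hcross _).2)
  obtain ⟨g, hg0⟩ := g
  obtain ⟨τ, hτ, c, hc, rfl⟩ := eq_monoCo0 hP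
  have hτO := tau_octO hτ hc hg0
  have hpair : ∀ p ∈ m24Base.take 6, ∀ q ∈ m24Base.take 6, p ≠ q →
      τ p = p ∨ τ p = q := by
    intro p hp q hq hne
    have hin : ∀ x ∈ m24Base.take 6, x ∈ octO := by decide +kernel
    have hf : ∀ p ∈ m24Base.take 6, ∀ q ∈ m24Base.take 6, p ≠ q →
        tvFun u0 (psi (rootFun p q 1)) = psi (rootFun p q 1) := by decide +kernel
    have hne0 : (rootL p q true : GolayPt → ℤ) p ≠ 0 := by
      rw [rootL_coe (hin p hp) (hin q hq) hne]
      simp [rootFun, hne]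
    have hg' : ((monoCo0 τ hτ c hc • rootL p q true : leechLattice) : GolayPt → ℤ) p ≠ 0 := by
      rcases hfixed p q true (hin p hp) (hin q hq) hne (hf p hp q hq hne) with e | e
      · exact e.symm ▸ hne0
      · rw [show monoCo0 τ hτ c hc • rootL p q true = -rootL p q true from e, AddSubgroup.coe_neg,
          Pi.neg_apply, neg_ne_zero]
        exact hne0
    by_contra hcon
    push Not at hcon
    apply hg'
    rw [monoCo0_smul]
    simp [monoFun, rootL_coe (hin p hp) (hin q hq) hne, rootFun, hcon.1, hcon.2]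
  have hsix : ∀ p ∈ m24Base.take 6, τ p = p := by
    intro p hp
    obtain ⟨q, hq, r, hr, h1, h2, h3⟩ :=
      (by decide +kernel : ∀ p ∈ m24Base.take 6, ∃ q ∈ m24Base.take 6, ∃ r ∈ m24Base.take 6,
        p ≠ q ∧ p ≠ r ∧ q ≠ r) p hp
    rcases hpair p hp q hq h1 with e | e
    · exact e
    · rcases hpair p hp r hr h2 with e' | e'
      · exact e'
      · exact absurd (e.symm.trans e') h3
  obtain ⟨i, rfl⟩ := fix_six hτ hsix
  have hO : ∀ p ∈ octO, transPerm i p = p := transPerm_fix i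
  have hbad : ∀ b b' : Bool,
      psi (fun p => (if b then -1 else 1) * Pi.single (M := fun _ => ℤ) (pt 14) 4 p +
        (if b' then -1 else 1) * Pi.single (M := fun _ => ℤ) (pt 0) 4 p) ≠
        tvFun u0 (psi (rootFun (pt 14) (pt 0) 1)) := by decide +kernel
  apply hbad (decide (pt 14 ∈ c)) (decide (pt 0 ∈ c))
  have hw := psi_smul ⟨_, hg0⟩ (rootL (pt 14) (pt 0) true) (rootL_onO ha hx hax true)
  rw [hM, rootL_coe ha hx hax] at hw
  refine Eq.trans (congrArg psi (funext fun p => ?_)) hw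
  rw [monoCo0_smul, rootL_coe ha hx hax]
  simp only [monoFun, rootFun, Pi.add_apply, Pi.single_apply, if_true, mul_one]
  by_cases h14 : p = pt 14
  · subst h14
    rw [hO _ ha]
    by_cases h : pt 14 ∈ c <;> simp [h, hax]
  · by_cases h00 : p = pt 0
    · subst h00
      rw [hO _ hx]
      by_cases h : pt 0 ∈ c <;> simp [h, Ne.symm hax]
    · have e1 : transPerm i p ≠ pt 14 := fun e => h14 ((transPerm i).injective (e.trans (hO _ ha).symm))
      have e2 : transPerm i p ≠ pt 0 := fun e => h00 ((transPerm i).injective (e.trans (hO _ hx).symm))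
      simp [h14, h00, e1, e2]

theorem range_phiQ : phiQ.range = Cfsg.Omega (ZMod 2) ⇑Q8 := by
  refine le_antisymm ?_ omega_le_range
  have hidx := CfsgLib.Forms.index_omega_charTwo (plusQ_nondegenerate 4 (F := ZMod 2)) (by simp)
    (Or.inr (by simp))
  have h := Subgroup.relIndex_mul_index omega_le_range
  rw [hidx] at h
  have hne : phiQ.range.index ≠ 1 := fun e =>
    tv_u0_not_mem (by rw [Subgroup.index_eq_one.1 e]; exact Subgroup.mem_top _)
  rcases (Nat.dvd_prime Nat.prime_two).1 (Dvd.intro_left _ h) with e | e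
  · exact absurd e hne
  · rw [e] at h
    exact Subgroup.relIndex_eq_one.1 (by omega)

end CfsgLib.CoOneInv
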