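import Cfsg.Prelude.Def_Spor_Conway
import Cfsg.Prelude.Def_Transfer
import Cfsg.Prelude.Def_Local
import Cfsg.Agent.LargeExtraspecial.Quotient
import Cfsg.Agent.MonsterType.ExtraIso
import Cfsg.Agent.Components.FStar
import Cfsg.Agent.Solvable.Fitting
import Cfsg.Agent.Forms4.POmegaOrders
import Cfsg.Agent.CoOneInv.Image

/-!
The centralizer of the image of the octad involution in the first Conway group.
-/

set_option autoImplicit false

namespace CfsgLib.CoOneInv

open Cfsg CfsgLib.Mathieu CfsgLib.Leech CfsgLib.StdForms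

/-- The projection to the first Conway group. -/
noncomputable def projC : Co0 →* Spor.Co1 := QuotientGroup.mk' (Subgroup.center Co0)

instance finite_Co1 : Finite Spor.Co1 :=
  haveI := co0_finite
  Quotient.finite _

theorem projC_negCo0 : projC negCo0 = 1 :=
  (QuotientGroup.eq_one_iff _).2 negCo0_mem_center

theorem projC_eq_cases {a b : Co0} (h : projC a = projC b) : b = a ∨ b = negCo0 * a := by
  rcases center_cases (QuotientGroup.eq.1 h) with e | e
  · exact Or.inl (inv_mul_eq_one.1 e).symm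
  · refine Or.inr ?_
    rw [← Subgroup.mem_center_iff.1 negCo0_mem_center a, ← e, mul_inv_cancel_left]

/-- The involution. -/
noncomputable def zOne : Spor.Co1 := projC epsCo0

theorem projC_wElt : projC wElt = zOne := by
  rw [wElt_eq_neg_mul, map_mul, projC_negCo0, one_mul, zOne]

theorem orderOf_zOne : orderOf zOne = 2 := by
  refine orderOf_eq_prime ?_ fun h => ?_
  · rw [← projC_wElt, sq, ← map_mul, wElt_sq, map_one]
  · rw [← projC_wElt, ← map_one projC] at h
    rcases projC_eq_cases h with e | e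
    · exact wElt_ne_one e.symm
    · have hw : negCo0 = wElt⁻¹ := eq_inv_of_mul_eq_one_left e.symm
      exact negCo0_not_mem (hw ▸ inv_mem wElt_mem)

/-- The centralizer. -/
abbrev C1 : Subgroup Spor.Co1 := Subgroup.centralizer ({zOne} : Set Spor.Co1)

theorem not_eps_mul {g : Co0} (h : g * epsCo0 = wElt * g) : False := by
  classical
  have hon : ∀ q, q ∉ octO → ∀ p, p ∉ octO →
      ((g • eightL q : leechLattice) : GolayPt → ℤ) p = 0 := by
    intro q hq p hp
    have hfe : epsCo0 • eightL q = eightL q := Subtype.ext (funext fun r => by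
      rw [epsCo0_smul]
      split_ifs with hr
      · have : eight q r = 0 := by
          rw [eight, Pi.single_apply, if_neg]; rintro rfl; exact hq hr
        show -(eight q r) = eight q r
        rw [this, neg_zero]
      · rfl)
    have e := congrArg (fun k : Co0 => ((k • eightL q : leechLattice) : GolayPt → ℤ) p) h
    simp only [mul_smul, hfe, wElt_smul, if_neg hp] at e
    omega
  let Y : GolayPt → GolayPt → ℤ := fun q p => ((g • eightL q : leechLattice) : GolayPt → ℤ) p
  have hdot : ∀ (x : GolayPt → ℤ) (p : GolayPt), dotInt x (eight p) = 8 * x p := fun x p => by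
    rw [dotInt, Finset.sum_eq_single p]
    · simp [eight, mul_comm]
    · intro b _ hb; simp [eight, Pi.single_apply, hb]
    · simp
  have hcol : ∀ p, ∑ q ∈ octOᶜ, Y q p ^ 2 ≤ 64 := by
    intro p
    have e : ∀ q, Y q p = ((g⁻¹ • eightL p : leechLattice) : GolayPt → ℤ) q := by
      intro q
      have h1 := co0_dot g⁻¹ (g • eightL q) (eightL p)
      rw [inv_smul_smul] at h1
      have h2 := hdot ((g • eightL q : leechLattice) : GolayPt → ℤ) p
      have h3 := hdot ((g⁻¹ • eightL p : leechLattice) : GolayPt → ℤ) q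
      have h4 : dotInt (eight q) ((g⁻¹ • eightL p : leechLattice) : GolayPt → ℤ) =
          dotInt ((g⁻¹ • eightL p : leechLattice) : GolayPt → ℤ) (eight q) := by
        simp only [dotInt, mul_comm]
      change dotInt (eight q) _ = dotInt _ (eight p) at h1
      show ((g • eightL q : leechLattice) : GolayPt → ℤ) p = _
      omega
    calc ∑ q ∈ octOᶜ, Y q p ^ 2 ≤ ∑ q, Y q p ^ 2 :=
          Finset.sum_le_sum_of_subset_of_nonneg (Finset.subset_univ _) fun _ _ _ => sq_nonneg _
      _ = sqNorm ((g⁻¹ • eightL p : leechLattice) : GolayPt → ℤ) := by simp only [sqNorm, e]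
      _ = 64 := by rw [co0_norm]; exact sqNorm_eight p
  have hrow : ∀ q ∈ octOᶜ, ∑ p ∈ octO, Y q p ^ 2 = 64 := by
    intro q hq
    rw [Finset.sum_subset (Finset.subset_univ octO) fun p _ hp => by
      rw [show Y q p = 0 from hon q (Finset.mem_compl.1 hq) p hp]; rfl]
    exact (co0_norm g (eightL q)).trans (sqNorm_eight q)
  have hcard : octO.card = 8 ∧ octOᶜ.card = 16 := by decide +kernel
  have h1 := Finset.sum_congr rfl hrow
  rw [Finset.sum_comm, Finset.sum_const, hcard.2] at h1
  have h2 := Finset.sum_le_sum (s := octO) fun p _ => hcol p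
  rw [h1, Finset.sum_const, hcard.1] at h2
  norm_num at h2

/-- The projection of the centralizers. -/
noncomputable def projCen : C0 →* C1 :=
  (projC.comp C0.subtype).codRestrict _ fun g => by
    rw [Subgroup.mem_centralizer_singleton_iff, zOne, MonoidHom.comp_apply, ← map_mul, ← map_mul]
    exact congrArg projC (Subgroup.mem_centralizer_singleton_iff.1 g.2)

theorem projCen_apply (g : C0) : (projCen g : Spor.Co1) = projC (g : Co0) := rfl

theorem projCen_surjective : Function.Surjective projCen := by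
  rintro ⟨x, hx⟩
  obtain ⟨g, rfl⟩ := QuotientGroup.mk'_surjective (Subgroup.center Co0) x
  have hx' : projC (epsCo0 * g) = projC (g * epsCo0) := by
    rw [map_mul, map_mul]
    exact (Subgroup.mem_centralizer_singleton_iff.1 hx).symm
  rcases projC_eq_cases hx' with e | e
  · exact ⟨⟨g, Subgroup.mem_centralizer_singleton_iff.2 e⟩, rfl⟩
  · exact (not_eps_mul (g := g) (by rw [e, ← mul_assoc, ← wElt_eq_neg_mul])).elim

/-- The subgroup fixing the sublattice, inside the centralizer. -/
abbrev fixKC : Subgroup C0 := fixK.subgroupOf C0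

instance fixKC_normal : fixKC.Normal := ⟨fun k hk g => by
  refine mem_fixK.2 fun p hp => ?_
  show ((g : Co0) * (k : Co0) * (g : Co0)⁻¹) • eightL p = eightL p
  rw [mul_smul, mul_smul, fixK_onO (show (k : Co0) ∈ fixK from hk) (onO_smul (inv_mem g.2) (eightL_onO hp)), smul_inv_smul]⟩

/-- The extraspecial subgroup. -/
noncomputable def QOne : Subgroup C1 := fixKC.map projCen

instance QOne_normal : QOne.Normal := fixKC_normal.map _ projCen_surjective

theorem fixK_eq_of_projC {a b : Co0} (ha : a ∈ fixK) (hb : b ∈ fixK) (h : projC a = projC b) : a = b := by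
  rcases projC_eq_cases h with e | e
  · exact e.symm
  · refine (negCo0_not_mem ?_).elim
    have := mul_mem hb (inv_mem ha)
    rwa [e, mul_inv_cancel_right] at this

theorem nonempty_fixK_equiv : Nonempty (fixK ≃* QOne) := by
  let f : fixK →* QOne :=
    (projCen.comp (Subgroup.inclusion fixK_le_C0)).codRestrict _ fun k => ⟨_, k.2, rfl⟩
  refine ⟨MulEquiv.ofBijective f ⟨fun a b h => Subtype.ext (fixK_eq_of_projC a.2 b.2 ?_), ?_⟩⟩
  · exact congrArg (fun x : QOne => ((x : C1) : Spor.Co1)) h
  · rintro ⟨_, k, hk, rfl⟩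
    exact ⟨⟨k, hk⟩, rfl⟩

theorem card_QOne : Nat.card QOne = 2 ^ 9 := by
  obtain ⟨e⟩ := nonempty_fixK_equiv
  rw [← Nat.card_congr e.toEquiv, card_fixK]

theorem extraspecial_QOne : IsExtraspecial 2 QOne := by
  haveI := co0_finite
  obtain ⟨e⟩ := nonempty_fixK_equiv
  refine CfsgLib.MonsterType.extraspecial_congr e ?_
  refine (CfsgLib.LargeExtraspecial.isExtraspecial_of_props (z := wElt)
    (IsPGroup.of_card card_fixK) (orderOf_eq_prime (by rw [sq, wElt_sq]) wElt_ne_one) wElt_mem
    ?_ ?_ ?_ ?_ ?_).1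
  · intro x hx
    obtain ⟨a, rfl⟩ := exists_kElt hx
    exact wElt_comm a
  · intro x hx
    obtain ⟨a, rfl⟩ := exists_kElt hx
    rw [kElt_sq]
    split_ifs
    exacts [Or.inr rfl, Or.inl rfl]
  · intro x hx y hy
    obtain ⟨a, rfl⟩ := exists_kElt hx
    obtain ⟨b, rfl⟩ := exists_kElt hy
    rw [kElt_mul_cases a b]
    split_ifs
    · exact Or.inl (by group)
    · refine Or.inr ?_
      rw [mul_assoc (kElt b * kElt a), ← (Commute.inv_left (wElt_comm a)).eq]
      group
      rw [zpow_neg_one, wElt_comm b, mul_inv_cancel_right]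
  · intro x hx hc
    obtain ⟨a, rfl⟩ := exists_kElt hx
    rcases kElt_nondeg a with h | h | ⟨b, hb⟩
    exacts [Or.inl h, Or.inr h, absurd (hc _ (kElt_mem_fixK b)).symm hb]
  · obtain ⟨b, hb⟩ := ((kElt_nondeg (1, 0)).resolve_left fun h =>
      absurd (kElt_injective (h.trans kElt_zero.symm)) (by decide)).resolve_left fun h =>
      absurd (kElt_injective h) (by decide)
    exact ⟨_, kElt_mem_fixK _, _, kElt_mem_fixK b, hb⟩

/-! ### The quotient -/

theorem ker_eq : phiQ.rangeRestrict.ker = ((QuotientGroup.mk' QOne).comp projCen).ker := by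
  rw [MonoidHom.ker_rangeRestrict, ← MonoidHom.comap_ker, QuotientGroup.ker_mk']
  ext g
  constructor
  · intro hg
    rcases ker_phiQ g hg with h | h
    · exact ⟨g, h, rfl⟩
    · exact ⟨negC * g, h, Subtype.ext (by
        rw [projCen_apply, projCen_apply, Subgroup.coe_mul, map_mul]
        show projC negCo0 * _ = _
        rw [projC_negCo0, one_mul])⟩
  · rintro ⟨k, hk, e⟩
    rcases projC_eq_cases (congrArg Subtype.val e) with h | h
    · rw [MonoidHom.mem_ker, show g = k from Subtype.ext h, phiQ_fixK hk]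
    · rw [MonoidHom.mem_ker, show g = negC * k from Subtype.ext h, map_mul, phiQ_negC, one_mul,
        phiQ_fixK hk]

theorem quotient_equiv : Nonempty (C1 ⧸ QOne ≃* Cfsg.Omega (ZMod 2) ⇑Q8) :=
  ⟨(((QuotientGroup.quotientKerEquivOfSurjective ((QuotientGroup.mk' QOne).comp projCen)
    ((QuotientGroup.mk'_surjective QOne).comp projCen_surjective)).symm.trans
    (QuotientGroup.quotientMulEquivOfEq ker_eq.symm)).trans
    (QuotientGroup.quotientKerEquivOfSurjective phiQ.rangeRestrict
      (MonoidHom.rangeRestrict_surjective phiQ))).trans (MulEquiv.subgroupCongr range_phiQ)⟩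

theorem omega_simple : IsSimpleGroup (Cfsg.Omega (ZMod 2) ⇑Q8) ∧
    Subgroup.center (Cfsg.Omega (ZMod 2) ⇑Q8) = ⊥ := by
  have hc : Subgroup.center (Cfsg.Omega (ZMod 2) ⇑Q8) = ⊥ :=
    Subgroup.card_eq_one.1 (CfsgLib.Forms4.card_center_omega_one (plusQ_nondegenerate 4)
      (by simp) (CfsgLib.Forms4.plusPairs 4 (by norm_num)) fun _ _ _ => by decide)
  refine ⟨?_, hc⟩
  have h := CfsgLib.Forms4.isSimpleGroup_pOmegaPlus (F := ZMod 2) 4 le_rfl
  rw [← coe_plusQ] at h
  let e : Cfsg.Omega (ZMod 2) ⇑Q8 ≃* Cfsg.POmega (ZMod 2) ⇑Q8 :=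
    QuotientGroup.quotientBot.symm.trans (QuotientGroup.quotientMulEquivOfEq hc.symm)
  haveI := h
  exact e.isSimpleGroup

theorem centralizer_QOne : Subgroup.centralizer (QOne : Set C1) ≤ QOne := by
  intro x hx
  obtain ⟨g, rfl⟩ := projCen_surjective x
  have hcom : ∀ a, (g : Co0) * kElt a = kElt a * (g : Co0) := by
    intro a
    let k : C0 := ⟨kElt a, fixK_le_C0 (kElt_mem_fixK a)⟩
    have hmem : projCen k ∈ QOne := ⟨k, kElt_mem_fixK a, rfl⟩
    have e : projCen (k * g) = projCen (g * k) := by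
      rw [map_mul, map_mul]; exact Subgroup.mem_centralizer_iff.1 hx _ hmem
    rcases projC_eq_cases (congrArg Subtype.val e) with h | h
    · exact h
    · refine (negCo0_not_mem ?_).elim
      have hgk : (g : Co0) * kElt a * (g : Co0)⁻¹ ∈ fixK :=
        fixKC_normal.conj_mem k (kElt_mem_fixK a) g
      change (g : Co0) * kElt a = negCo0 * (kElt a * (g : Co0)) at h
      rw [h, mul_assoc negCo0, mul_inv_cancel_right] at hgk
      have := mul_mem hgk (inv_mem (kElt_mem_fixK a))
      rwa [mul_inv_cancel_right] at this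
  rcases commute_all g.2 hcom with h | h
  · exact ⟨g, h, rfl⟩
  · exact ⟨negC * g, h, Subtype.ext (by
      rw [projCen_apply, projCen_apply, Subgroup.coe_mul, map_mul]
      show projC negCo0 * _ = _
      rw [projC_negCo0, one_mul])⟩

theorem fitting_le_QOne : Cfsg.fittingSubgroup C1 ≤ QOne := by
  haveI : (Cfsg.fittingSubgroup C1).Normal := CfsgLib.Solvable.fittingSubgroup_normal
  haveI : Group.IsNilpotent (Cfsg.fittingSubgroup C1) := CfsgLib.Solvable.fittingSubgroup_isNilpotent
  obtain ⟨e⟩ := quotient_equiv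
  obtain ⟨hsimple, hc⟩ := omega_simple
  haveI := hsimple
  let f : C1 →* Cfsg.Omega (ZMod 2) ⇑Q8 := e.toMonoidHom.comp (QuotientGroup.mk' QOne)
  have hf : Function.Surjective f := e.surjective.comp (QuotientGroup.mk'_surjective QOne)
  intro x hx
  haveI : ((Cfsg.fittingSubgroup C1).map f).Normal := Subgroup.Normal.map inferInstance f hf
  rcases Subgroup.Normal.eq_bot_or_eq_top (H := (Cfsg.fittingSubgroup C1).map f) inferInstance with h | h
  · have h1 : f x = 1 := Subgroup.mem_bot.1 (h ▸ Subgroup.mem_map_of_mem f hx)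
    exact (QuotientGroup.eq_one_iff x).1 (e.map_eq_one_iff.1 h1)
  · exfalso
    let f' : Cfsg.fittingSubgroup C1 →* Cfsg.Omega (ZMod 2) ⇑Q8 :=
      f.comp (Cfsg.fittingSubgroup C1).subtype
    have hf' : Function.Surjective f' := fun y => by
      obtain ⟨a, ha, rfl⟩ : y ∈ (Cfsg.fittingSubgroup C1).map f := h ▸ Subgroup.mem_top y
      exact ⟨⟨a, ha⟩, rfl⟩
    haveI := Group.nilpotent_of_surjective f' hf'
    haveI : Nontrivial (Cfsg.Omega (ZMod 2) ⇑Q8) := hsimple.toNontrivial
    exact Group.IsNilpotent.center_ne_bot (Cfsg.Omega (ZMod 2) ⇑Q8) hc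

theorem generalizedFitting_eq : Cfsg.generalizedFittingSubgroup C1 = QOne := by
  have hQF : QOne ≤ Cfsg.fittingSubgroup C1 :=
    CfsgLib.Components.le_fittingSubgroup (IsPGroup.of_card card_QOne).isNilpotent
  refine le_antisymm (sup_le ?_ fitting_le_QOne) (hQF.trans le_sup_right)
  exact CfsgLib.Components.layer_le_centralizer_fittingSubgroup.trans
    ((Subgroup.centralizer_le (SetLike.coe_subset_coe.2 hQF)).trans centralizer_QOne)

theorem not_weakly_closed : ∃ g : Spor.Co1,
    (∃ hq : g * zOne * g⁻¹ ∈ C1, (⟨g * zOne * g⁻¹, hq⟩ : C1) ∈ QOne) ∧ g * zOne * g⁻¹ ≠ zOne := by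
  obtain ⟨j, hj⟩ : ∃ j : Fin 32, offWords.getD j 0 = octTwo := by decide +kernel
  have hne : j ≠ 31 := fun h => by
    subst h
    revert hj
    decide +kernel
  have hok : tableValid octTwoTable = true ∧ preservesCode octTwoTable = true ∧
      ∀ a < 24, octTwo.testBit (app octTwoTable a) = m24BaseOctad.testBit a := by decide +kernel
  obtain ⟨τ, hr⟩ := exists_rep_of_valid hok.1
  let g0 : Co0 := monoCo0 τ (mem_M24_of_table hr hok.2.1) ∅ (by
    rw [← setOf24_zero]; exact setOf24_mem_supports isCode_zero)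
  have e : epsCo0 * g0 = g0 * kElt (0, j) := by
    refine co0_ext fun v => Subtype.ext (funext fun p => ?_)
    have hp : τ p ∈ offSet j ↔ p ∈ octO := by
      rw [offSet, hj, mem_setOf24, mem_octO, ← hok.2.2 _ (idx_lt p),
        show app octTwoTable (idx p) = idx (τ p) from hr p]
    simp only [mul_smul, epsCo0_smul, g0, monoCo0_smul, monoFun, Finset.notMem_empty, if_false,
      kElt_smul, transPerm_zero, hp]
  have e2 : (projC g0)⁻¹ * zOne * ((projC g0)⁻¹)⁻¹ = projC (kElt (0, j)) := by
    rw [inv_inv, mul_assoc, zOne, ← map_mul, e, map_mul, inv_mul_cancel_left]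
  refine ⟨(projC g0)⁻¹, ?_, ?_⟩
  · let k : C0 := ⟨kElt (0, j), fixK_le_C0 (kElt_mem_fixK _)⟩
    refine ⟨e2 ▸ (projCen k).2, ?_⟩
    rw [show (⟨_, e2 ▸ (projCen k).2⟩ : C1) = projCen k from Subtype.ext e2]
    exact ⟨k, kElt_mem_fixK _, rfl⟩
  · rw [e2, ← projC_wElt]
    exact fun h => hne (congrArg Prod.snd (kElt_injective (fixK_eq_of_projC (kElt_mem_fixK _) wElt_mem h)))

end CfsgLib.CoOneInv
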