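import Cfsg.Agent.Leech.Co0

/-!
Data for the centralizer of an octad involution in the first Conway group: bases of the lattice on the
octad, code words off the octad, moves.
-/

set_option autoImplicit false

namespace CfsgLib.CoOneInv

open CfsgLib.Leech

/-- A basis of the lattice on the octad, a hyperbolic basis modulo two. -/
def bL : Fin 4 ⊕ Fin 4 → List ℤ :=
  Sum.elim ![[4, -4, 4, -4, 0, 0, 0, 0, 0, 0, 0, 0, 0, 0, 8, 0, 0, -8, 0, 0, 0, 0, 0, 0],
      [0, 4, -4, 0, 0, 4, 0, 0, 0, 0, 0, 0, 0, 0, -4, 0, 0, 0, 0, 0, 0, 0, 0, 0],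
      [4, -4, 8, -8, 0, 0, 0, 0, 0, 0, 0, 0, 0, 0, 12, 0, 0, -12, 0, 0, 0, 0, 0, 0],
      [0, 0, 0, 0, 0, 0, 0, 0, 0, 0, 0, 0, 0, 0, 8, 0, 0, 0, 0, 0, 0, 0, 0, 0]]
    ![[4, -4, 8, -4, 0, -4, 0, 0, 0, 0, 0, 0, 0, 0, 16, 0, 0, -16, 0, 0, 0, 0, 0, 0],
      [4, 0, 4, -8, 0, 4, 0, 0, 0, 0, 0, 0, 0, 0, 12, 0, 0, -16, 0, 0, 0, 0, 0, 0],
      [0, 0, 4, -4, 0, 4, 0, 0, 0, 0, 0, 0, 0, 0, 0, 0, 0, -4, 0, 0, 0, 0, 0, 0],
      [2, 2, 2, 2, 0, 2, 0, 0, 0, 0, 0, 0, 0, 0, 10, 0, 0, 2, 0, 0, 0, 0, 0, 2]]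

/-- The dual basis. -/
def dL : Fin 4 ⊕ Fin 4 → List ℤ :=
  Sum.elim ![[4, -4, 0, 4, 0, 4, 0, 0, 0, 0, 0, 0, 0, 0, 0, 0, 0, 0, 0, 0, 0, 0, 0, -8],
      [16, 12, 8, 4, 0, 0, 0, 0, 0, 0, 0, 0, 0, 0, 0, 0, 0, 4, 0, 0, 0, 0, 0, -44],
      [8, 8, 4, -4, 0, -4, 0, 0, 0, 0, 0, 0, 0, 0, 0, 0, 0, 4, 0, 0, 0, 0, 0, -16],
      [2, 2, 2, 2, 0, 2, 0, 0, 0, 0, 0, 0, 0, 0, 2, 0, 0, 2, 0, 0, 0, 0, 0, -22]]
    ![[4, 4, 4, 4, 0, 0, 0, 0, 0, 0, 0, 0, 0, 0, 0, 0, 0, 0, 0, 0, 0, 0, 0, -16],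
      [-12, -8, -8, -4, 0, 0, 0, 0, 0, 0, 0, 0, 0, 0, 0, 0, 0, -4, 0, 0, 0, 0, 0, 36],
      [0, 0, 4, 4, 0, 4, 0, 0, 0, 0, 0, 0, 0, 0, 0, 0, 0, 0, 0, 0, 0, 0, 0, -12],
      [0, 0, 0, 0, 0, 0, 0, 0, 0, 0, 0, 0, 0, 0, 0, 0, 0, 0, 0, 0, 0, 0, 0, 8]]

/-- The inner products of the basis, divided by 16. -/
def gram : Fin 4 ⊕ Fin 4 → Fin 4 ⊕ Fin 4 → ℤ :=
  Sum.elim ![Sum.elim ![12, -4, 18, 4] ![21, 18, 4, 4],
      Sum.elim ![-4, 4, -6, -2] ![-8, -3, 0, -2],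
      Sum.elim ![18, -6, 28, 6] ![32, 28, 7, 6],
      Sum.elim ![4, -2, 6, 4] ![8, 6, 0, 5]]
    ![Sum.elim ![21, -8, 32, 8] ![40, 32, 6, 8],
      Sum.elim ![18, -3, 28, 6] ![32, 32, 8, 6],
      Sum.elim ![4, 0, 7, 0] ![6, 8, 4, 0],
      Sum.elim ![4, -2, 6, 5] ![8, 6, 0, 8]]

/-- The code words off the octad. -/
def offWords : List ℕ :=
  [0, 337856, 628112, 832080, 1161408, 1351424, 1584464, 1903248, 2141072, 2460752, 2702848, 2890176, 3216208, 3421328, 3704512, 4038912, 4202192, 4536592, 4819776, 5024896, 5350928, 5538256, 5780352, 6100032, 6337856, 6656640, 6889680, 7079696, 7409024, 7612992, 7903248, 8241104]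

/-- The class of the root with entries `4, -4` on the two special points. -/
def u0 : Fin 4 ⊕ Fin 4 → ZMod 2 := Sum.elim ![0, 1, 1, 0] ![0, 1, 0, 0]

/-- Move lists for products of two transvections, with the second vector. -/
def seedList : List (List Mv × (Fin 4 ⊕ Fin 4 → ZMod 2)) :=
  [([.mono 566073426779046459040877649791461066728553822781039575296 7860304], Sum.elim ![0, 1, 1, 1] ![0, 1, 0, 0]),
    ([.mono 418564351493087678132046526876496663318550353102984315136 0], Sum.elim ![0, 0, 1, 0] ![0, 0, 1, 0])]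

/-- Move lists commuting with the involution, with the columns of their action modulo two. -/
def genList : List (List Mv × List ℕ) :=
  [([.xi], [129, 2, 4, 28, 16, 32, 192, 128]),
    ([.mono 344528297258279277175196949619896378761664074658000995586 0], [32, 20, 16, 8, 2, 64, 65, 128]),
    ([.mono 26248864721384144513599498364472723999029336348443476741 0], [52, 117, 118, 8, 5, 82, 85, 128]),
    ([.mono 565876990659701006600031039736725068891370873817380753666 0], [82, 87, 33, 8, 55, 18, 80, 128]),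
    ([.mono 50005920172033880505730394933662932019336565172759364881 0], [115, 87, 82, 8, 2, 18, 20, 128]),
    ([.mono 677601924473050530318135093718355485935914917452775941 0], [18, 4, 51, 8, 48, 64, 16, 128]),
    ([.mono 566073426779046459040877649791461066728553822781039575296 3698756], [9, 2, 12, 8, 16, 32, 72, 220]),
    ([.mono 566073426779046459040877649791461066728553822781039575296 7860304], [1, 10, 4, 8, 16, 40, 72, 174])]

/-- The order in which the generators are used. -/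
def sched : List ℕ := [0, 1, 2, 3, 4, 5, 6, 7]

/-- An octad off the octad. -/
def octTwo : ℕ := 6889680

/-- A table taking the octad to the other one. -/
def octTwoTable : ℕ := 393093724821682094704564291375075423849837209008543830806

end CfsgLib.CoOneInv
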