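import Cfsg.Prelude.Def_Classical
import Cfsg.Agent.Leech.CrossMax
import Cfsg.Agent.Mathieu.OctadPointwise
import Cfsg.Agent.CoOneInv.Data

/-!
The sublattice on an octad as a quadratic space over the field with two elements, and the action on it of the
centralizer of the sign change on the octad.
-/

set_option autoImplicit false

namespace CfsgLib.CoOneInv

open Cfsg CfsgLib.Mathieu CfsgLib.Leech
open scoped Matrix

/-- The index type of the eight coordinates. -/
abbrev I8 := Fin 4 ⊕ Fin 4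

/-- The octad. -/
def octO : Finset GolayPt := setOf24 m24BaseOctad

theorem octO_supports : octO ∈ supports (golayCode : Set (GolayPt → ZMod 2)) :=
  setOf24_mem_supports (by decide +kernel)

/-- The sign change on the octad. -/
def epsCo0 : Co0 := monoCo0 1 (one_mem _) octO octO_supports

theorem epsCo0_smul (v : leechLattice) (p : GolayPt) :
    ((epsCo0 • v : leechLattice) : GolayPt → ℤ) p =
      if p ∈ octO then -(v : GolayPt → ℤ) p else (v : GolayPt → ℤ) p := rfl

/-- The centralizer of the sign change. -/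
abbrev C0 : Subgroup Co0 := Subgroup.centralizer ({epsCo0} : Set Co0)

/-- Vectors supported on the octad. -/
def OnO (x : GolayPt → ℤ) : Prop := ∀ p, p ∉ octO → x p = 0

/-- The sublattice on the octad. -/
def onSub : AddSubgroup leechLattice where
  carrier := {v | OnO (v : GolayPt → ℤ)}
  zero_mem' := fun _ _ => rfl
  add_mem' := fun {a b} ha hb p hp => by
    show (a : GolayPt → ℤ) p + (b : GolayPt → ℤ) p = 0
    rw [ha p hp, hb p hp, add_zero]
  neg_mem' := fun {a} ha p hp => by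
    show -(a : GolayPt → ℤ) p = 0
    rw [ha p hp, neg_zero]

theorem onO_iff (v : leechLattice) : OnO (v : GolayPt → ℤ) ↔ epsCo0 • v = -v := by
  constructor
  · intro h
    refine Subtype.ext (funext fun p => ?_)
    rw [epsCo0_smul, AddSubgroup.coe_neg, Pi.neg_apply]
    by_cases hp : p ∈ octO
    · rw [if_pos hp]
    · rw [if_neg hp, h p hp, neg_zero]
  · intro h p hp
    have e := congrFun (congrArg Subtype.val h) p
    rw [epsCo0_smul, if_neg hp, AddSubgroup.coe_neg, Pi.neg_apply] at e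
    omega

theorem onO_smul {g : Co0} (hg : g ∈ C0) {v : leechLattice} (hv : OnO (v : GolayPt → ℤ)) :
    OnO ((g • v : leechLattice) : GolayPt → ℤ) := by
  rw [onO_iff] at hv ⊢
  rw [smul_smul, ← Subgroup.mem_centralizer_singleton_iff.1 hg, mul_smul, hv, co0_neg]

/-! ### Norms and inner products -/

theorem norm_dvd_onO {x : GolayPt → ℤ} (hx : x ∈ leechLattice) (ho : OnO x) :
    (32 : ℤ) ∣ sqNorm x := by
  obtain ⟨m, a, ha, hs, hw⟩ := mem_leech.mp hx
  have hq : ∃ q, q ∉ octO := by decide +kernel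
  obtain ⟨q, hq⟩ := hq
  obtain ⟨n, hn⟩ : ∃ n, m = 2 * n := ⟨-a q, by have := ho q hq; rw [ha q] at this; omega⟩
  let y : GolayPt → ℤ := fun i => n + a i
  have hy : ∀ i, x i = 2 * y i := fun i => by simp only [y, ha i, hn]; ring
  have hyw : res2 y ∈ golayCode := by
    have e : res2 y = res2 a + (n : ZMod 2) • (1 : GolayPt → ZMod 2) := by
      ext i; simp [res2, y]; ring
    rw [e]; exact add_mem hw (Submodule.smul_mem _ _ one_mem_golayCode)
  have hsub : support₂ (res2 y) ⊆ octO := by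
    intro i hi
    by_contra hio
    have h0 : y i = 0 := by have := ho i hio; rw [hy i] at this; omega
    exact (Finset.mem_filter.1 hi).2 (by simp [res2, h0])
  have hO : octO.card = 8 := by decide +kernel
  have hpar : ∃ e : ℤ, ∀ i ∈ octO, ∃ z, y i = e + 2 * z := by
    rcases supports_card (mem_golayCode_iff_support.mp hyw) with h | h | h | h | h
    · refine ⟨0, fun i _ => ?_⟩
      have hi : i ∉ support₂ (res2 y) := by rw [Finset.card_eq_zero.mp h]; simp
      have hi' : ((y i : ℤ) : ZMod 2) = 0 := by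
        by_contra hne
        exact hi (Finset.mem_filter.mpr ⟨Finset.mem_univ _, hne⟩)
      rw [ZMod.intCast_zmod_eq_zero_iff_dvd] at hi'
      exact ⟨y i / 2, by omega⟩
    · refine ⟨1, fun i hi => ?_⟩
      rw [← Finset.eq_of_subset_of_card_le hsub (by rw [hO, h])] at hi
      have hne : ¬ ((y i : ℤ) : ZMod 2) = 0 := (Finset.mem_filter.1 hi).2
      rw [ZMod.intCast_zmod_eq_zero_iff_dvd] at hne
      exact ⟨y i / 2, by omega⟩
    all_goals exact absurd (Finset.card_le_card hsub) (by omega)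
  obtain ⟨e, he⟩ := hpar
  choose! z hz using he
  have s1 : ∑ i, x i = 16 * e + 4 * ∑ i ∈ octO, z i := by
    rw [← Finset.sum_subset (Finset.subset_univ octO) fun i _ hi => ho i hi,
      Finset.sum_congr rfl fun i hi => (hy i).trans (congrArg (2 * ·) (hz i hi))]
    rw [Finset.sum_congr rfl fun i _ => show 2 * (e + 2 * z i) = 2 * e + 4 * z i by ring,
      Finset.sum_add_distrib, Finset.sum_const, hO, ← Finset.mul_sum]
    simp
    ring
  have s2 : sqNorm x = 32 * e ^ 2 + 16 * e * ∑ i ∈ octO, z i + 16 * ∑ i ∈ octO, z i ^ 2 := by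
    rw [sqNorm, ← Finset.sum_subset (Finset.subset_univ octO) fun i _ hi => by rw [ho i hi]; rfl,
      Finset.sum_congr rfl fun i hi =>
        congrArg (· ^ 2) ((hy i).trans (congrArg (2 * ·) (hz i hi)))]
    rw [Finset.sum_congr rfl fun i _ => show (2 * (e + 2 * z i)) ^ 2 =
      4 * e ^ 2 + 16 * e * z i + 16 * z i ^ 2 by ring, Finset.sum_add_distrib, Finset.sum_add_distrib,
      Finset.sum_const, hO, ← Finset.mul_sum, ← Finset.mul_sum]
    simp
    ring
  rw [s1, hn] at hs
  unfold Int.ModEq at hs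
  obtain ⟨t, ht⟩ : (2 : ℤ) ∣ ∑ i ∈ octO, z i := by omega
  obtain ⟨u, hu⟩ : (2 : ℤ) ∣ ∑ i ∈ octO, z i ^ 2 := by
    have h3 : (2 : ℤ) ∣ ∑ i ∈ octO, (z i ^ 2 - z i) :=
      Finset.dvd_sum fun i _ => by
        rw [show z i ^ 2 - z i = z i * (z i - 1) by ring]
        exact (Int.even_mul_pred_self (z i)).two_dvd
    rw [Finset.sum_sub_distrib, ht] at h3
    omega
  rw [s2, ht, hu]
  exact ⟨e ^ 2 + e * t + u, by ring⟩

theorem dot_dvd_onO {x y : GolayPt → ℤ} (hx : x ∈ leechLattice) (hy : y ∈ leechLattice)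
    (hxo : OnO x) (hyo : OnO y) : (16 : ℤ) ∣ dotInt x y := by
  obtain ⟨a, ha⟩ := norm_dvd_onO hx hxo
  obtain ⟨b, hb⟩ := norm_dvd_onO hy hyo
  obtain ⟨c, hc⟩ := norm_dvd_onO (add_mem hx hy) fun p hp => by
    rw [Pi.add_apply, hxo p hp, hyo p hp, add_zero]
  rw [sqNorm_add, ha, hb] at hc
  exact ⟨c - a - b, by omega⟩

/-! ### Coordinates -/

theorem bL_spec : ∀ k, leechB (vec (bL k)) = true ∧ leechB (vec (dL k)) = true ∧
    (∀ p, p ∉ octO → vec (bL k) p = 0 ∧ vec (dL k) p = 0) := by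
  decide +kernel

theorem gram_spec : ∀ k l, dotInt (vec (bL k)) (vec (bL l)) = 16 * gram k l := by decide +kernel

theorem dual_spec : ∀ k l, dotInt (vec (dL k)) (vec (bL l)) = if k = l then 16 else 0 := by
  decide +kernel

theorem resolution_spec : ∀ p ∈ octO, ∀ q ∈ octO,
    (∑ k, vec (bL k) p * vec (dL k) q) = if p = q then 16 else 0 := by
  decide +kernel

/-- A basis vector. -/
def bV (k : I8) : leechLattice := ⟨vec (bL k), leechB_iff.1 (bL_spec k).1⟩

theorem bV_onO (k : I8) : OnO (bV k : GolayPt → ℤ) := fun p hp => ((bL_spec k).2.2 p hp).1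

/-- The coordinates in the basis. -/
def ell (k : I8) (x : GolayPt → ℤ) : ℤ := dotInt (vec (dL k)) x / 16

theorem ell_spec (k : I8) {x : GolayPt → ℤ} (hx : x ∈ leechLattice) (ho : OnO x) :
    16 * ell k x = dotInt (vec (dL k)) x :=
  Int.mul_ediv_cancel' (dot_dvd_onO (leechB_iff.1 (bL_spec k).2.1) hx
    (fun p hp => ((bL_spec k).2.2 p hp).2) ho)

theorem expand {x : GolayPt → ℤ} (hx : x ∈ leechLattice) (ho : OnO x) (p : GolayPt) :
    x p = ∑ k, ell k x * vec (bL k) p := by
  by_cases hp : p ∈ octO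
  · have e : ∀ k, dotInt (vec (dL k)) x = ∑ q ∈ octO, vec (dL k) q * x q := fun k => by
      rw [dotInt, Finset.sum_subset (Finset.subset_univ octO) fun q _ hq => by
        rw [ho q hq, mul_zero]]
    have h16 : 16 * ∑ k, ell k x * vec (bL k) p = 16 * x p := by
      rw [Finset.mul_sum, Finset.sum_congr rfl fun k _ =>
        show 16 * (ell k x * vec (bL k) p) = ∑ q ∈ octO, vec (bL k) p * vec (dL k) q * x q by
          rw [← mul_assoc, ell_spec k hx ho, e, Finset.sum_mul]
          exact Finset.sum_congr rfl fun q _ => by ring,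
        Finset.sum_comm, Finset.sum_congr rfl fun q hq =>
          show ∑ k, vec (bL k) p * vec (dL k) q * x q = (if p = q then 16 else 0) * x q by
            rw [← Finset.sum_mul, resolution_spec p hp q hq]]
      simp only [ite_mul, zero_mul, Finset.sum_ite_eq, if_pos hp]
    omega
  · rw [ho p hp, Finset.sum_eq_zero fun k _ => by rw [((bL_spec k).2.2 p hp).1, mul_zero]]

/-- The class modulo two of a vector on the octad. -/
def psi (x : GolayPt → ℤ) : I8 → ZMod 2 := fun k => (ell k x : ZMod 2)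

theorem psi_bV : ∀ c : I8, psi (bV c : GolayPt → ℤ) = Pi.single c 1 := by
  have h : ∀ c k : I8, psi (vec (bL c)) k = (Pi.single c 1 : I8 → ZMod 2) k := by decide +kernel
  exact fun c => funext (h c)

theorem ell_add (k : I8) {x y : GolayPt → ℤ} (hx : x ∈ leechLattice) (hy : y ∈ leechLattice)
    (hxo : OnO x) (hyo : OnO y) : ell k (x + y) = ell k x + ell k y := by
  have h1 := ell_spec k hx hxo
  have h2 := ell_spec k hy hyo
  have h3 := ell_spec k (add_mem hx hy) fun p hp => by rw [Pi.add_apply, hxo p hp, hyo p hp, add_zero]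
  have h4 : dotInt (vec (dL k)) (x + y) = dotInt (vec (dL k)) x + dotInt (vec (dL k)) y := by
    simp only [dotInt, Pi.add_apply, mul_add, Finset.sum_add_distrib]
  omega

/-- The reduction modulo two of the sublattice on the octad. -/
def psiHom : onSub →+ (I8 → ZMod 2) :=
  AddMonoidHom.mk' (fun v => psi ((v : leechLattice) : GolayPt → ℤ)) fun a b => funext fun k => by
    show ((ell k (((a : leechLattice) : GolayPt → ℤ) + ((b : leechLattice) : GolayPt → ℤ)) : ℤ) : ZMod 2) = _
    rw [ell_add k (a : leechLattice).2 (b : leechLattice).2 a.2 b.2, Int.cast_add]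
    rfl

theorem psiHom_apply (v : leechLattice) (hv : OnO (v : GolayPt → ℤ)) :
    psiHom ⟨v, hv⟩ = psi (v : GolayPt → ℤ) := rfl

theorem sum_bV {v : leechLattice} (hv : OnO (v : GolayPt → ℤ)) :
    v = ∑ k, ell k (v : GolayPt → ℤ) • bV k := by
  refine Subtype.ext (funext fun p => ?_)
  rw [AddSubgroup.val_finsetSum, Finset.sum_apply]
  exact expand v.2 hv p

theorem psi_sum (c : I8 → ℤ) :
    OnO ((∑ k, c k • bV k : leechLattice) : GolayPt → ℤ) ∧
      psi ((∑ k, c k • bV k : leechLattice) : GolayPt → ℤ) = fun k => (c k : ZMod 2) := by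
  have e : ((∑ k, c k • (⟨bV k, bV_onO k⟩ : onSub) : onSub) : leechLattice) = ∑ k, c k • bV k := by
    rw [AddSubgroup.val_finsetSum]; rfl
  refine ⟨e ▸ (∑ k, c k • (⟨bV k, bV_onO k⟩ : onSub) : onSub).2, ?_⟩
  rw [← e]
  show psiHom (∑ k, c k • (⟨bV k, bV_onO k⟩ : onSub)) = _
  rw [map_sum]
  funext r
  rw [Finset.sum_apply, Finset.sum_eq_single r]
  · rw [map_zsmul, Pi.smul_apply, psiHom_apply, psi_bV, Pi.single_eq_same, zsmul_one]
  · intro k _ hk
    rw [map_zsmul, Pi.smul_apply, psiHom_apply, psi_bV, Pi.single_eq_of_ne (Ne.symm hk), smul_zero]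
  · simp

theorem psi_surjective (w : I8 → ZMod 2) :
    ∃ v : leechLattice, OnO (v : GolayPt → ℤ) ∧ psi (v : GolayPt → ℤ) = w :=
  ⟨_, (psi_sum fun k => ((w k).val : ℤ)).1,
    (psi_sum fun k => ((w k).val : ℤ)).2.trans (funext fun k => by
      rw [Int.cast_natCast, ZMod.natCast_zmod_val])⟩

theorem psi_eq {x y : GolayPt → ℤ} (hx : x ∈ leechLattice) (hy : y ∈ leechLattice) (hxo : OnO x)
    (hyo : OnO y) (h : psi x = psi y) : ∃ w ∈ leechLattice, x - y = 2 • w := by
  refine ⟨((∑ k, ((ell k x - ell k y) / 2) • bV k : leechLattice) : GolayPt → ℤ),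
    (∑ k, ((ell k x - ell k y) / 2) • bV k : leechLattice).2, funext fun p => ?_⟩
  rw [Pi.sub_apply, expand hx hxo p, expand hy hyo p, AddSubgroup.val_finsetSum, Pi.smul_apply,
    Finset.sum_apply, ← Finset.sum_sub_distrib, Finset.smul_sum]
  refine Finset.sum_congr rfl fun k _ => ?_
  have hk : (((ell k x - ell k y : ℤ)) : ZMod 2) = 0 := by
    rw [Int.cast_sub, sub_eq_zero]; exact congrFun h k
  rw [ZMod.intCast_zmod_eq_zero_iff_dvd] at hk
  obtain ⟨t, ht⟩ := hk
  rw [AddSubgroup.coe_zsmul, Pi.smul_apply, smul_eq_mul, nsmul_eq_mul, ← sub_mul, ht]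
  push_cast
  rw [Int.mul_ediv_cancel_left _ two_ne_zero, mul_assoc]
  rfl

/-- The quadratic form is half the norm in the standard scale. -/
theorem quad_psi {x : GolayPt → ℤ} (hx : x ∈ leechLattice) (ho : OnO x) :
    Cfsg.quadFormPlus 4 (ZMod 2) (psi x) = ((sqNorm x / 32 : ℤ) : ZMod 2) := by
  have e : sqNorm x = 16 * ∑ k, ∑ l, ell k x * ell l x * gram k l := by
    calc sqNorm x = ∑ p, (∑ k, ell k x * vec (bL k) p) * (∑ l, ell l x * vec (bL l) p) := by
          exact Finset.sum_congr rfl fun p _ => by rw [← expand hx ho p, sq]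
      _ = ∑ k, ∑ l, ell k x * ell l x * dotInt (vec (bL k)) (vec (bL l)) := by
          rw [Finset.sum_congr rfl fun p _ => Finset.sum_mul_sum Finset.univ Finset.univ
            (fun k => ell k x * vec (bL k) p) (fun l => ell l x * vec (bL l) p), Finset.sum_comm]
          refine Finset.sum_congr rfl fun k _ => ?_
          rw [Finset.sum_comm]
          refine Finset.sum_congr rfl fun l _ => ?_
          rw [dotInt, Finset.mul_sum]
          exact Finset.sum_congr rfl fun p _ => by ring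
      _ = _ := by
          simp only [gram_spec, Finset.mul_sum]
          exact Finset.sum_congr rfl fun k _ => Finset.sum_congr rfl fun l _ => by ring
  have hgram : ∀ k l : I8, gram k l = gram l k ∧ (4 : ℤ) ∣ gram k k := by decide +kernel
  let c : I8 → ℤ := fun k => ell k x
  obtain ⟨P, hP⟩ : ∃ P, ∑ k, ∑ l, c k * c l * gram k l =
      2 * (2 * P + ∑ i : Fin 4, c (.inl i) * c (.inr i)) := by
    simp only [Fintype.sum_sum_type, Fin.sum_univ_four, gram]
    simp only [Sum.elim_inl, Sum.elim_inr, Matrix.cons_val, Matrix.cons_val_zero, Matrix.cons_val_one]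
    generalize c (.inl 0) = a0, c (.inl 1) = a1, c (.inl 2) = a2, c (.inl 3) = a3,
      c (.inr 0) = b0, c (.inr 1) = b1, c (.inr 2) = b2, c (.inr 3) = b3
    refine ⟨3 * a0 ^ 2 + a1 ^ 2 + 7 * a2 ^ 2 + a3 ^ 2 + 10 * b0 ^ 2 + 8 * b1 ^ 2 + b2 ^ 2 + 2 * b3 ^ 2
      - 2 * a0 * a1 + 9 * a0 * a2 + 2 * a0 * a3 + 10 * a0 * b0 + 9 * a0 * b1 + 2 * a0 * b2
      + 2 * a0 * b3 - 3 * a1 * a2 - a1 * a3 - 4 * a1 * b0 - 2 * a1 * b1 - a1 * b3 + 3 * a2 * a3
      + 16 * a2 * b0 + 14 * a2 * b1 + 3 * a2 * b2 + 3 * a2 * b3 + 4 * a3 * b0 + 3 * a3 * b1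
      + 2 * a3 * b3 + 16 * b0 * b1 + 3 * b0 * b2 + 4 * b0 * b3 + 4 * b1 * b2 + 3 * b1 * b3, ?_⟩
    ring
  rw [e, hP, show (16 : ℤ) * (2 * (2 * P + ∑ i : Fin 4, c (.inl i) * c (.inr i))) =
      32 * (2 * P + ∑ i : Fin 4, c (.inl i) * c (.inr i)) by ring,
    Int.mul_ediv_cancel_left _ (by norm_num : (32 : ℤ) ≠ 0)]
  simp only [Cfsg.quadFormPlus, psi, c, Int.cast_add, Int.cast_mul, Int.cast_sum]
  have h2 : ((2 : ℤ) : ZMod 2) = 0 := by decide
  rw [h2, zero_mul, zero_add]

/-! ### The action of the centralizer -/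

/-- The matrix of an element on the sublattice modulo two. -/
def phiMat (g : C0) : Matrix I8 I8 (ZMod 2) :=
  Matrix.of fun r c => psi (((g : Co0) • bV c : leechLattice) : GolayPt → ℤ) r

theorem psi_smul (g : C0) (v : leechLattice) (hv : OnO (v : GolayPt → ℤ)) :
    psi (((g : Co0) • v : leechLattice) : GolayPt → ℤ) = phiMat g *ᵥ psi (v : GolayPt → ℤ) := by
  have e : (g : Co0) • v = ∑ k, ell k (v : GolayPt → ℤ) • ((g : Co0) • bV k) := by
    conv_lhs => rw [sum_bV hv]
    change co0Hom (g : Co0) _ = _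
    rw [map_sum]
    exact Finset.sum_congr rfl fun k _ => map_zsmul (co0Hom (g : Co0)) _ _
  have e2 : (⟨(g : Co0) • v, onO_smul g.2 hv⟩ : onSub) =
      ∑ k, ell k (v : GolayPt → ℤ) • (⟨(g : Co0) • bV k, onO_smul g.2 (bV_onO k)⟩ : onSub) := by
    refine Subtype.ext ?_
    rw [AddSubgroup.val_finsetSum]
    exact e
  rw [← psiHom_apply _ (onO_smul g.2 hv), e2, map_sum]
  funext r
  simp only [Finset.sum_apply, map_zsmul, Pi.smul_apply, psiHom_apply, Matrix.mulVec, dotProduct,
    phiMat, Matrix.of_apply, zsmul_eq_mul]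
  exact Finset.sum_congr rfl fun k _ => mul_comm _ _

theorem phiMat_one : phiMat 1 = 1 := by
  ext r c
  simp only [phiMat, Matrix.of_apply, OneMemClass.coe_one, one_smul, psi_bV, Matrix.one_apply,
    Pi.single_apply]

theorem phiMat_mul (g h : C0) : phiMat (g * h) = phiMat g * phiMat h := by
  ext r c
  have := congrFun (psi_smul g ((h : Co0) • bV c) (onO_smul h.2 (bV_onO c))) r
  simp only [phiMat, Matrix.of_apply, Subgroup.coe_mul, mul_smul] at this ⊢
  rw [this, Matrix.mulVec, dotProduct, Matrix.mul_apply]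
  rfl

/-- The action as a homomorphism into invertible matrices. -/
def phiGL : C0 →* Matrix.GeneralLinearGroup I8 (ZMod 2) :=
  MonoidHom.toHomUnits
    { toFun := phiMat, map_one' := phiMat_one, map_mul' := phiMat_mul }

theorem phiGL_coe (g : C0) : ((phiGL g : Matrix.GeneralLinearGroup I8 (ZMod 2)) : Matrix I8 I8 (ZMod 2)) =
    phiMat g := rfl

theorem quad_phiMat (g : C0) (w : I8 → ZMod 2) :
    Cfsg.quadFormPlus 4 (ZMod 2) (phiMat g *ᵥ w) = Cfsg.quadFormPlus 4 (ZMod 2) w := by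
  obtain ⟨v, hv, rfl⟩ := psi_surjective w
  rw [← psi_smul g v hv, quad_psi ((g : Co0) • v).2 (onO_smul g.2 hv), quad_psi v.2 hv, co0_norm]

/-- The action as a homomorphism into the isometry group. -/
def phi : C0 →* ↥(Cfsg.isometryGroup (ZMod 2) (Cfsg.quadFormPlus 4 (ZMod 2))) :=
  phiGL.codRestrict _ fun g u _ => quad_phiMat g u

theorem phi_coe (g : C0) :
    (((phi g : ↥(Cfsg.isometryGroup (ZMod 2) (Cfsg.quadFormPlus 4 (ZMod 2)))) :
      Matrix.GeneralLinearGroup I8 (ZMod 2)) : Matrix I8 I8 (ZMod 2)) = phiMat g := rfl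

theorem eq_or_neg_of_psi {x y : GolayPt → ℤ} (hx : x ∈ leechLattice) (hy : y ∈ leechLattice)
    (hxo : OnO x) (hyo : OnO y) (hxn : sqNorm x = 32) (hyn : sqNorm y = 32) (h : psi x = psi y) :
    y = x ∨ y = -x := by
  obtain ⟨w, hw, e⟩ := psi_eq hx hy hxo hyo h
  rcases congr_cases hy (by omega) (by omega) hw e with e | e | ⟨e, -⟩
  · exact Or.inl e
  · exact Or.inr e
  · omega

theorem smul_root_cases (g : C0) (v : leechLattice) (hv : OnO (v : GolayPt → ℤ))
    (hn : sqNorm (v : GolayPt → ℤ) = 32)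
    (hfix : phiMat g *ᵥ psi (v : GolayPt → ℤ) = psi (v : GolayPt → ℤ)) :
    (g : Co0) • v = v ∨ (g : Co0) • v = -v := by
  rcases eq_or_neg_of_psi v.2 ((g : Co0) • v).2 hv (onO_smul g.2 hv) hn
      (by rw [co0_norm]; exact hn) (by rw [psi_smul g v hv, hfix]) with e | e
  · exact Or.inl (Subtype.ext e)
  · exact Or.inr (Subtype.ext e)

end CfsgLib.CoOneInv
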